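import Mathlib
import Cfsg.Agent.S0749
import Cfsg.Agent.Helper5.WittSkel
import Cfsg.Agent.Helper6.Symp
import Cfsg.Prelude.Def_ClassicalGeometry

/-!
Generation of symplectic isometries by transvections, tracked through an arbitrary class `I` of
linear automorphisms containing the transvections and closed under composition; and the bridge to
the matrix group `Matrix.symplecticGroup`.
-/

set_option autoImplicit false

namespace Cfsg.Agent.Helper5

theorem core_gen {F V : Type*} [Field F] [AddCommGroup V] [Module F V] [FiniteDimensional F V]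
    (B : LinearMap.BilinForm F V) (hB : B.Nondegenerate) (hA : B.IsAlt)
    (I : (V ≃ₗ[F] V) → Prop) (htrans : ∀ g₁ g₂, I g₁ → I g₂ → I (g₁.trans g₂))
    (hI : ∀ c w, I (Cfsg.Agent.S0749.transv B hA c w))
    (X₀ : Submodule F V) (x y : V) (hx : x ∉ X₀) (hy : y ∉ X₀)
    (hxy : ∀ w ∈ X₀, B w (y - x) = 0) :
    ∃ g : V ≃ₗ[F] V, I g ∧ (∀ w ∈ X₀, g w = w) ∧ g x = y := by
  classical
  have hperp : ∀ z, z ∉ X₀ → ∃ t, (∀ w ∈ X₀, B w t = 0) ∧ B t z ≠ 0 := by
    intro z hz
    by_contra hcon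
    push Not at hcon
    apply hz
    rw [← LinearMap.BilinForm.orthogonal_orthogonal hB hA.isRefl X₀]
    rw [LinearMap.BilinForm.mem_orthogonal_iff]
    intro t ht
    exact hcon t (fun w hw => ht w hw)
  have step : ∀ x y : V, B x y ≠ 0 → (∀ w ∈ X₀, B w (y - x) = 0) →
      ∃ g : V ≃ₗ[F] V, I g ∧ (∀ w ∈ X₀, g w = w) ∧ g x = y := by
    intro x y hne hxy
    refine ⟨Cfsg.Agent.S0749.transv B hA (B x y)⁻¹ (y - x), hI _ _, ?_, ?_⟩
    · intro w hw
      change w + ((B x y)⁻¹ * B w (y - x)) • (y - x) = w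
      rw [hxy w hw, mul_zero, zero_smul, add_zero]
    · change x + ((B x y)⁻¹ * B x (y - x)) • (y - x) = y
      have h0 : B x x = 0 := hA x
      rw [map_sub, h0, sub_zero, inv_mul_cancel₀ hne, one_smul]
      abel
  by_cases hne : B x y ≠ 0
  · exact step x y hne hxy
  · push Not at hne
    obtain ⟨t₁, ht₁, ht₁x⟩ := hperp x hx
    obtain ⟨t₂, ht₂, ht₂y⟩ := hperp y hy
    obtain ⟨t, ht, htx, hty⟩ : ∃ t, (∀ w ∈ X₀, B w t = 0) ∧ B t x ≠ 0 ∧ B t y ≠ 0 := by
      by_cases h1 : B t₁ y = 0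
      · by_cases h2 : B t₂ x = 0
        · refine ⟨t₁ + t₂, fun w hw => by rw [map_add, ht₁ w hw, ht₂ w hw, add_zero], ?_, ?_⟩
          · rw [map_add, LinearMap.add_apply, h2, add_zero]
            exact ht₁x
          · rw [map_add, LinearMap.add_apply, h1, zero_add]
            exact ht₂y
        · exact ⟨t₂, ht₂, h2, ht₂y⟩
      · exact ⟨t₁, ht₁, ht₁x, h1⟩
    have hxz : B x (x + t) ≠ 0 := by
      have h0 : B x x = 0 := hA x
      rw [map_add, h0, zero_add]
      intro hh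
      apply htx
      rw [← hA.neg_eq x t, hh, neg_zero]
    have hzy : B (x + t) y ≠ 0 := by
      rw [map_add, LinearMap.add_apply, hne, zero_add]
      exact hty
    obtain ⟨g₁, hg₁, hg₁X, hg₁x⟩ := step x (x + t) hxz (fun w hw => by
      rw [add_sub_cancel_left]
      exact ht w hw)
    obtain ⟨g₂, hg₂, hg₂X, hg₂x⟩ := step (x + t) y hzy (fun w hw => by
      have : y - (x + t) = (y - x) - t := by abel
      rw [this, map_sub, hxy w hw, ht w hw, sub_zero])
    refine ⟨g₁.trans g₂, htrans _ _ hg₁ hg₂, fun w hw => ?_, ?_⟩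
    · change g₂ (g₁ w) = w
      rw [hg₁X w hw, hg₂X w hw]
    · change g₂ (g₁ x) = y
      rw [hg₁x, hg₂x]

theorem sp_gen {F V : Type*} [Field F] [AddCommGroup V] [Module F V] [FiniteDimensional F V]
    (B : LinearMap.BilinForm F V) (hB : B.Nondegenerate) (hA : B.IsAlt)
    (I : (V ≃ₗ[F] V) → Prop) (hrefl : I (LinearEquiv.refl F V))
    (htrans : ∀ g₁ g₂, I g₁ → I g₂ → I (g₁.trans g₂))
    (hI : ∀ c w, I (Cfsg.Agent.S0749.transv B hA c w))
    (hIso : ∀ g, I g → ∀ u v, B (g u) (g v) = B u v)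
    (f : V →ₗ[F] V) (hf : ∀ u v, B (f u) (f v) = B u v) : ∃ g, I g ∧ ∀ v, g v = f v := by
  obtain ⟨s, hs⟩ : ∃ s : Finset V, Submodule.span F (s : Set V) = ⊤ := Module.Finite.fg_top
  have hinj : ∀ u, f u = 0 → u = 0 := by
    intro u hu
    apply hB.1 u
    intro v
    rw [← hf u v, hu, map_zero, LinearMap.zero_apply]
  have key : ∃ g, I g ∧ ∀ u ∈ Submodule.span F (s : Set V), g u = f u := by
    refine witt_skel
      (fun f X => (∀ u ∈ X, ∀ v ∈ X, B (f u) (f v) = B u v) ∧ (∀ u ∈ X, f u = 0 → u = 0)) I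
      ?_ hrefl htrans ?_ ?_ s f ⟨fun u _ v _ => hf u v, fun u _ => hinj u⟩
    · intro f X Y hle hP
      exact ⟨fun u hu v hv => hP.1 u (hle hu) v (hle hv), fun u hu => hP.2 u (hle hu)⟩
    · intro f X g hP hg
      have hgs : ∀ u v, B (g.symm u) (g.symm v) = B u v := by
        intro u v
        have := hIso g hg (g.symm u) (g.symm v)
        rw [g.apply_symm_apply, g.apply_symm_apply] at this
        exact this.symm
      refine ⟨fun u hu v hv => ?_, fun u hu h0 => ?_⟩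
      · change B (g.symm (f u)) (g.symm (f v)) = _
        rw [hgs, hP.1 u hu v hv]
      · apply hP.2 u hu
        exact (LinearEquiv.map_eq_zero_iff g.symm).1 h0
    · intro f X₀ a hP hfix ha
      have hmem : a ∈ X₀ ⊔ Submodule.span F {a} :=
        Submodule.mem_sup_right (Submodule.mem_span_singleton_self a)
      have hle : X₀ ≤ X₀ ⊔ Submodule.span F {a} := le_sup_left
      have hy : f a ∉ X₀ := by
        intro hy
        apply ha
        have h1 : f (a - f a) = 0 := by rw [map_sub, hfix _ hy, sub_self]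
        have h2 := hP.2 (a - f a) (Submodule.sub_mem _ hmem (hle hy)) h1
        rw [sub_eq_zero] at h2
        rw [h2]
        exact hy
      exact core_gen B hB hA I htrans hI X₀ a (f a) ha hy (by
        intro w hw
        rw [map_sub]
        have := hP.1 w (hle hw) a hmem
        rw [hfix w hw] at this
        rw [this, sub_self])
  obtain ⟨g, hg, hgs⟩ := key
  exact ⟨g, hg, fun v => hgs v (by rw [hs]; exact Submodule.mem_top)⟩

theorem sp_pair {F V : Type*} [Field F] [AddCommGroup V] [Module F V] [FiniteDimensional F V]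
    (B : LinearMap.BilinForm F V) (hB : B.Nondegenerate) (hA : B.IsAlt)
    (I : (V ≃ₗ[F] V) → Prop)
    (htrans : ∀ g₁ g₂, I g₁ → I g₂ → I (g₁.trans g₂))
    (hI : ∀ c w, I (Cfsg.Agent.S0749.transv B hA c w))
    (hIso : ∀ g, I g → ∀ u v, B (g u) (g v) = B u v)
    (u v u' v' : V) (h : B u v = 1) (h' : B u' v' = 1) :
    ∃ g, I g ∧ g u = u' ∧ g v = v' := by
  have hu0 : u ∉ (⊥ : Submodule F V) := by
    rw [Submodule.mem_bot]
    rintro rfl
    rw [map_zero, LinearMap.zero_apply] at h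
    exact zero_ne_one h
  have hu'0 : u' ∉ (⊥ : Submodule F V) := by
    rw [Submodule.mem_bot]
    rintro rfl
    rw [map_zero, LinearMap.zero_apply] at h'
    exact zero_ne_one h'
  obtain ⟨g₁, hg₁, -, hg₁u⟩ := core_gen B hB hA I htrans hI ⊥ u u' hu0 hu'0 (by
    intro w hw
    rw [Submodule.mem_bot] at hw
    rw [hw, map_zero, LinearMap.zero_apply])
  have h1 : B u' (g₁ v) = 1 := by rw [← hg₁u, hIso g₁ hg₁, h]
  have hself : B u' u' = 0 := hA u'
  have hnot : ∀ z, B u' z = 1 → z ∉ Submodule.span F {u'} := by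
    intro z hz hmem
    obtain ⟨a, rfl⟩ := Submodule.mem_span_singleton.1 hmem
    rw [map_smul, hself, smul_zero] at hz
    exact zero_ne_one hz
  obtain ⟨g₂, hg₂, hg₂X, hg₂v⟩ := core_gen B hB hA I htrans hI (Submodule.span F {u'}) (g₁ v) v'
    (hnot _ h1) (hnot _ h') (by
      intro w hw
      obtain ⟨a, rfl⟩ := Submodule.mem_span_singleton.1 hw
      rw [map_smul, LinearMap.smul_apply, map_sub, h', h1, sub_self, smul_zero])
  refine ⟨g₁.trans g₂, htrans _ _ hg₁ hg₂, ?_, ?_⟩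
  · change g₂ (g₁ u) = u'
    rw [hg₁u]
    exact hg₂X u' (Submodule.mem_span_singleton_self u')
  · change g₂ (g₁ v) = v'
    exact hg₂v

section MatrixBridge

open Matrix

variable {F : Type*} [Field F] (m : ℕ)

/-- The symplectic form of the statements as a bilinear form. -/
noncomputable def sB : LinearMap.BilinForm F (Fin m ⊕ Fin m → F) :=
  Matrix.toBilin' (Matrix.J (Fin m) F)

theorem sB_apply (u v : Fin m ⊕ Fin m → F) : sB m u v = Cfsg.sympForm m F u v :=
  Matrix.toBilin'_apply' _ u v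

theorem sB_alt : (sB (F := F) m).IsAlt := fun u => by
  rw [sB_apply]
  exact Cfsg.Agent.Helper6.dotProduct_J_mulVec_self m u

theorem sB_nondeg : (sB (F := F) m).Nondegenerate :=
  LinearMap.BilinForm.nondegenerate_toBilin'_of_det_ne_zero' _
    (Matrix.isUnit_det_J (Fin m) F).ne_zero

theorem sp_preserves (A : Matrix (Fin m ⊕ Fin m) (Fin m ⊕ Fin m) F)
    (hA : A ∈ Matrix.symplecticGroup (Fin m) F) (u v : Fin m ⊕ Fin m → F) :
    sB m (A.mulVec u) (A.mulVec v) = sB m u v := by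
  rw [sB_apply, sB_apply]
  unfold Cfsg.sympForm
  rw [dotProduct_comm, Matrix.dotProduct_mulVec, ← Matrix.mulVec_transpose, dotProduct_comm,
    Matrix.mulVec_mulVec, Matrix.mulVec_mulVec,
    SymplecticGroup.mem_iff'.1 hA]

theorem transv_mulVec (w : Fin m ⊕ Fin m → F) (c : F) (x : Fin m ⊕ Fin m → F) :
    (Cfsg.sympTransvection m w c).mulVec x
      = Cfsg.Agent.S0749.transv (sB m) (sB_alt m) c w x := by
  change (1 + c • Matrix.vecMulVec w (Matrix.J (Fin m) F *ᵥ w)) *ᵥ x = x + (c * sB m x w) • w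
  rw [sB_apply]
  unfold Cfsg.sympForm
  rw [Matrix.add_mulVec, Matrix.one_mulVec, Matrix.smul_mulVec, Matrix.vecMulVec_mulVec,
    op_smul_eq_smul, smul_smul, dotProduct_comm]

/-- The class of linear automorphisms given by matrices in the subgroup generated by the
symplectic transvections. -/
def IT (g : (Fin m ⊕ Fin m → F) ≃ₗ[F] (Fin m ⊕ Fin m → F)) : Prop :=
  ∃ A ∈ Subgroup.closure {A : Matrix.symplecticGroup (Fin m) F |
      ∃ (w : Fin m ⊕ Fin m → F) (c : F),
        (A : Matrix (Fin m ⊕ Fin m) (Fin m ⊕ Fin m) F) = Cfsg.sympTransvection m w c},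
    ∀ x, (A : Matrix (Fin m ⊕ Fin m) (Fin m ⊕ Fin m) F).mulVec x = g x

theorem IT_refl : IT (F := F) m (LinearEquiv.refl F _) :=
  ⟨1, Subgroup.one_mem _, fun x => by
    change (1 : Matrix (Fin m ⊕ Fin m) (Fin m ⊕ Fin m) F) *ᵥ x = x
    rw [Matrix.one_mulVec]⟩

theorem IT_trans (g₁ g₂ : (Fin m ⊕ Fin m → F) ≃ₗ[F] (Fin m ⊕ Fin m → F)) (h1 : IT m g₁)
    (h2 : IT m g₂) : IT m (g₁.trans g₂) := by
  obtain ⟨A₁, hA₁, h1⟩ := h1
  obtain ⟨A₂, hA₂, h2⟩ := h2
  refine ⟨A₂ * A₁, Subgroup.mul_mem _ hA₂ hA₁, fun x => ?_⟩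
  change ((A₂ : Matrix (Fin m ⊕ Fin m) (Fin m ⊕ Fin m) F)
    * (A₁ : Matrix (Fin m ⊕ Fin m) (Fin m ⊕ Fin m) F)) *ᵥ x = g₂ (g₁ x)
  rw [← Matrix.mulVec_mulVec]
  exact (congrArg _ (h1 x)).trans (h2 _)

theorem IT_transv (c : F) (w : Fin m ⊕ Fin m → F) :
    IT m (Cfsg.Agent.S0749.transv (sB m) (sB_alt m) c w) :=
  ⟨⟨Cfsg.sympTransvection m w c, Cfsg.Agent.Helper6.sympTransvection_mem m w c⟩,
    Subgroup.subset_closure ⟨w, c, rfl⟩, fun x => transv_mulVec m w c x⟩

theorem IT_iso (g : (Fin m ⊕ Fin m → F) ≃ₗ[F] (Fin m ⊕ Fin m → F)) (hg : IT m g)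
    (u v : Fin m ⊕ Fin m → F) : sB m (g u) (g v) = sB m u v := by
  obtain ⟨A, -, hA⟩ := hg
  rw [← hA u, ← hA v]
  exact sp_preserves m A.1 A.2 u v

end MatrixBridge

end Cfsg.Agent.Helper5
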