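import Mathlib
import Cfsg.Agent.Helper5.CartanDieu
import Cfsg.Agent.Helper5.SympGen
import Cfsg.Agent.Helper5.PerpKit

/-!
Cartan–Dieudonné in characteristic two over a finite field: every isometry of a quadratic form
with non-degenerate polar form is a product of reflections, except for four-dimensional spaces
over the field with two elements. Tracked through an arbitrary class `I` of linear automorphisms
containing the reflections and closed under composition, as in `cd_gen`.
-/

set_option autoImplicit false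

namespace Cfsg.Agent.Helper5

section CD2

variable {F : Type*} [Field F] {V : Type*} [AddCommGroup V] [Module F V]

theorem c2_neg (h2 : (2 : F) = 0) (v : V) : -v = v := by
  have h : v + v = 0 := by
    rw [← two_smul F v, h2, zero_smul]
  exact neg_eq_of_add_eq_zero_left h

theorem c2_polar_self (h2 : (2 : F) = 0) (Q : QuadraticForm F V) (x : V) :
    QuadraticMap.polar (⇑Q) x x = 0 := by
  rw [kit_polar_self, h2, zero_mul]

theorem c2_refl_apply (h2 : (2 : F) = 0) (Q : QuadraticForm F V) (v : V) (hv : Q v ≠ 0) (x : V) :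
    reflEquiv Q v hv x = x + ((Q v)⁻¹ * QuadraticMap.polar (⇑Q) v x) • v := by
  change x - ((Q v)⁻¹ * QuadraticMap.polar (⇑Q) v x) • v = _
  rw [sub_eq_add_neg, c2_neg h2]

theorem c2_Q_sub (h2 : (2 : F) = 0) (Q : QuadraticForm F V) (x y : V) (hxy : Q y = Q x) :
    Q (y - x) = QuadraticMap.polar (⇑Q) x y := by
  rw [sub_eq_add_neg, c2_neg h2, kit_add, hxy, QuadraticMap.polar_comm]
  linear_combination (Q x) * h2

theorem c2_move (h2 : (2 : F) = 0) (Q : QuadraticForm F V) (x y : V) (hxy : Q y = Q x)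
    (hne : QuadraticMap.polar (⇑Q) x y ≠ 0) :
    ∃ hd : Q (y - x) ≠ 0, reflEquiv Q (y - x) hd x = y := by
  have hd : Q (y - x) ≠ 0 := by
    rw [c2_Q_sub h2 Q x y hxy]
    exact hne
  refine ⟨hd, ?_⟩
  rw [c2_refl_apply h2, c2_Q_sub h2 Q x y hxy, QuadraticMap.polar_sub_left, c2_polar_self h2,
    sub_zero, QuadraticMap.polar_comm _ y x, inv_mul_cancel₀ hne, one_smul]
  abel

theorem c2_card_cases [Fintype F] (hF : Fintype.card F = 2) (a : F) : a = 0 ∨ a = 1 := by
  classical
  by_contra hcon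
  push Not at hcon
  have h3 : ({0, 1, a} : Finset F).card = 3 := by
    rw [Finset.card_insert_of_notMem, Finset.card_insert_of_notMem, Finset.card_singleton]
    · rw [Finset.mem_singleton]
      exact fun h => hcon.2 h.symm
    · rw [Finset.mem_insert, Finset.mem_singleton]
      push Not
      exact ⟨zero_ne_one, fun h => hcon.1 h.symm⟩
  have h4 := Finset.card_le_univ ({0, 1, a} : Finset F)
  rw [h3, hF] at h4
  omega

theorem c2_exists_third [Fintype F] (hF : Fintype.card F ≠ 2) : ∃ a : F, a ≠ 0 ∧ a ≠ 1 := by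
  classical
  by_contra hcon
  push Not at hcon
  apply hF
  apply le_antisymm
  · have h1 : (Finset.univ : Finset F) ⊆ {0, 1} := by
      intro a _
      rw [Finset.mem_insert, Finset.mem_singleton]
      by_cases ha : a = 0
      · exact Or.inl ha
      · exact Or.inr (hcon a ha)
    have h2 := Finset.card_le_card h1
    rw [Finset.card_univ] at h2
    exact h2.trans Finset.card_le_two
  · exact Fintype.one_lt_card

theorem cd2_trans [Fintype F] [FiniteDimensional F V]
    (Q : QuadraticForm F V) (hQ : (QuadraticMap.polarBilin Q).Nondegenerate) (h2 : (2 : F) = 0)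
    (h : Fintype.card F ≠ 2 ∨ Module.finrank F V ≠ 4)
    (I : (V ≃ₗ[F] V) → Prop) (hrefl : I (LinearEquiv.refl F V))
    (htrans : ∀ g₁ g₂, I g₁ → I g₂ → I (g₁.trans g₂))
    (hI : ∀ v (hv : Q v ≠ 0), I (reflEquiv Q v hv))
    (x y : V) (hx : Q x ≠ 0) (hxy : Q y = Q x) : ∃ g, I g ∧ g x = y := by
  classical
  by_cases hne : QuadraticMap.polar (⇑Q) x y ≠ 0
  · obtain ⟨hd, hm⟩ := c2_move h2 Q x y hxy hne
    exact ⟨_, hI _ hd, hm⟩
  push Not at hne
  by_cases hxe : x = y
  · exact ⟨_, hrefl, hxe⟩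
  have hy : Q y ≠ 0 := by
    rw [hxy]
    exact hx
  have hx0 : x ≠ 0 := fun h0 => hx (by rw [h0, map_zero])
  have hy0 : y ≠ 0 := fun h0 => hy (by rw [h0, map_zero])
  have hex : ∀ a : V, a ≠ 0 → ∃ z, QuadraticMap.polar (⇑Q) a z ≠ 0 := by
    intro a ha
    by_contra hcon
    push Not at hcon
    exact ha (hQ.1 a hcon)
  obtain ⟨z₁, hz₁⟩ := hex x hx0
  obtain ⟨z₂, hz₂⟩ := hex y hy0
  obtain ⟨z, hzx, hzy⟩ : ∃ z, QuadraticMap.polar (⇑Q) x z ≠ 0 ∧
      QuadraticMap.polar (⇑Q) y z ≠ 0 := by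
    by_cases h1 : QuadraticMap.polar (⇑Q) y z₁ = 0
    · by_cases h3 : QuadraticMap.polar (⇑Q) x z₂ = 0
      · refine ⟨z₁ + z₂, ?_, ?_⟩
        · rw [QuadraticMap.polar_add_right, h3, add_zero]
          exact hz₁
        · rw [QuadraticMap.polar_add_right, h1, zero_add]
          exact hz₂
      · exact ⟨z₂, h3, hz₂⟩
    · exact ⟨z₁, hz₁, h1⟩
  obtain ⟨w, hw1, hw2, hw3⟩ : ∃ w, Q w = Q x ∧ QuadraticMap.polar (⇑Q) x w ≠ 0 ∧
      QuadraticMap.polar (⇑Q) w y ≠ 0 := by
    by_cases hF : Fintype.card F = 2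
    · have hone : ∀ a : F, a ≠ 0 → a = 1 := fun a ha => (c2_card_cases hF a).resolve_left ha
      suffices hs : ∃ z', Q z' ≠ 0 ∧ QuadraticMap.polar (⇑Q) x z' ≠ 0 ∧
          QuadraticMap.polar (⇑Q) y z' ≠ 0 by
        obtain ⟨z', h1, h3, h4⟩ := hs
        refine ⟨z', ?_, h3, ?_⟩
        · rw [hone _ h1, hone _ hx]
        · rw [QuadraticMap.polar_comm]
          exact h4
      by_cases hQz : Q z ≠ 0
      · exact ⟨z, hQz, hzx, hzy⟩
      push Not at hQz
      by_contra hcon
      push Not at hcon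
      have hlin : ∀ v, QuadraticMap.polar (⇑Q) x v = 0 → QuadraticMap.polar (⇑Q) y v = 0 →
          Q v = QuadraticMap.polar (⇑Q) z v := by
        intro v hxv hyv
        by_contra hv
        have h5 : Q (z + v) ≠ 0 := by
          rw [kit_add, hQz, zero_add]
          intro h6
          apply hv
          linear_combination h6 - (QuadraticMap.polar (⇑Q) z v) * h2
        have h7 : QuadraticMap.polar (⇑Q) x (z + v) ≠ 0 := by
          rw [QuadraticMap.polar_add_right, hxv, add_zero]
          exact hzx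
        have h8 := hcon (z + v) h5 h7
        rw [QuadraticMap.polar_add_right, hyv, add_zero] at h8
        exact hzy h8
      obtain ⟨P, hP⟩ : ∃ P : Submodule F V, P = Submodule.span F {x} ⊔ Submodule.span F {y} :=
        ⟨_, rfl⟩
      obtain ⟨O, hO⟩ : ∃ O : Submodule F V,
          O = LinearMap.BilinForm.orthogonal (QuadraticMap.polarBilin Q) P := ⟨_, rfl⟩
      have hxP : x ∈ P := by
        rw [hP]
        exact Submodule.mem_sup_left (Submodule.mem_span_singleton_self x)
      have hyP : y ∈ P := by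
        rw [hP]
        exact Submodule.mem_sup_right (Submodule.mem_span_singleton_self y)
      have hPx : ∀ p ∈ P, QuadraticMap.polar (⇑Q) x p = 0 ∧ QuadraticMap.polar (⇑Q) y p = 0 := by
        intro p hp
        rw [hP] at hp
        obtain ⟨s, hs, t, ht, rfl⟩ := Submodule.mem_sup.1 hp
        obtain ⟨a, rfl⟩ := Submodule.mem_span_singleton.1 hs
        obtain ⟨b, rfl⟩ := Submodule.mem_span_singleton.1 ht
        constructor
        · rw [QuadraticMap.polar_add_right, QuadraticMap.polar_smul_right,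
            QuadraticMap.polar_smul_right, c2_polar_self h2, hne, smul_zero, smul_zero, add_zero]
        · rw [QuadraticMap.polar_add_right, QuadraticMap.polar_smul_right,
            QuadraticMap.polar_smul_right, c2_polar_self h2, QuadraticMap.polar_comm _ y x, hne,
            smul_zero, smul_zero, add_zero]
      have hOmem : ∀ v, v ∈ O ↔
          QuadraticMap.polar (⇑Q) x v = 0 ∧ QuadraticMap.polar (⇑Q) y v = 0 := by
        intro v
        rw [hO, LinearMap.BilinForm.mem_orthogonal_iff]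
        constructor
        · intro hv
          exact ⟨hv x hxP, hv y hyP⟩
        · rintro ⟨h5, h6⟩ p hp
          rw [hP] at hp
          obtain ⟨s, hs, t, ht, rfl⟩ := Submodule.mem_sup.1 hp
          obtain ⟨a, rfl⟩ := Submodule.mem_span_singleton.1 hs
          obtain ⟨b, rfl⟩ := Submodule.mem_span_singleton.1 ht
          change QuadraticMap.polar (⇑Q) (a • x + b • y) v = 0
          rw [QuadraticMap.polar_add_left, QuadraticMap.polar_smul_left,
            QuadraticMap.polar_smul_left, h5, h6, smul_zero, smul_zero, add_zero]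
      have hPO : P ≤ O := fun p hp => (hOmem p).2 (hPx p hp)
      have hOP : O ≤ P := by
        intro v hv
        rw [← LinearMap.BilinForm.orthogonal_orthogonal hQ (kit_refl Q) P, ← hO,
          LinearMap.BilinForm.mem_orthogonal_iff]
        intro n hn
        change QuadraticMap.polar (⇑Q) n v = 0
        have h5 := (hOmem n).1 hn
        have h6 := (hOmem v).1 hv
        have h7 := (hOmem (n + v)).1 (Submodule.add_mem _ hn hv)
        rw [kit_polar_def, hlin n h5.1 h5.2, hlin v h6.1 h6.2, hlin (n + v) h7.1 h7.2,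
          QuadraticMap.polar_add_right]
        ring
      have hPeq : O = P := le_antisymm hOP hPO
      have hfr := LinearMap.BilinForm.finrank_orthogonal hQ P
      rw [← hO, hPeq] at hfr
      have hle := Submodule.finrank_le P
      have h1 : Module.finrank F ↥(Submodule.span F ({x} : Set V)) = 1 :=
        finrank_span_singleton hx0
      have hle2 := finrank_sup_span_le (Submodule.span F ({x} : Set V)) y
      rw [← hP] at hle2
      have hlt : Submodule.span F ({x} : Set V) < P := by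
        refine lt_of_le_of_ne (by rw [hP]; exact le_sup_left) (fun heq => ?_)
        rw [← heq] at hyP
        obtain ⟨a, ha⟩ := Submodule.mem_span_singleton.1 hyP
        rcases c2_card_cases hF a with h0 | h0
        · rw [h0, zero_smul] at ha
          exact hy0 ha.symm
        · rw [h0, one_smul] at ha
          exact hxe ha
      have hlt2 := Submodule.finrank_lt_finrank_of_lt hlt
      rcases h with h | h
      · exact h hF
      · apply h
        omega
    · obtain ⟨a, ha0, ha1⟩ := c2_exists_third hF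
      obtain ⟨σ, hσ0, hσp⟩ : ∃ σ : F, σ ≠ 0 ∧
          Q z * σ * σ + QuadraticMap.polar (⇑Q) x z * σ + Q x ≠ 0 := by
        by_contra hcon
        push Not at hcon
        have h5 := hcon 1 one_ne_zero
        have h6 := hcon a ha0
        have h7 := hcon (a + 1) (fun h8 => ha1 (by linear_combination h8 - h2))
        apply hx
        linear_combination h5 + h6 - h7 + (a * Q z) * h2
      obtain ⟨p, hp⟩ : ∃ p, p = Q z * σ * σ + QuadraticMap.polar (⇑Q) x z * σ + Q x := ⟨_, rfl⟩
      rw [← hp] at hσp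
      obtain ⟨τ, hτ⟩ : ∃ τ, τ = σ * QuadraticMap.polar (⇑Q) x z / p := ⟨_, rfl⟩
      have hτp : τ * p = σ * QuadraticMap.polar (⇑Q) x z := by
        rw [hτ]
        field_simp
      have hτ0 : τ ≠ 0 := by
        rw [hτ]
        exact div_ne_zero (mul_ne_zero hσ0 hzx) hσp
      refine ⟨(τ * σ) • z + (1 + τ) • x, ?_, ?_, ?_⟩
      · rw [kit_add, QuadraticMap.map_smul, QuadraticMap.map_smul, QuadraticMap.polar_smul_left,
          QuadraticMap.polar_smul_right, smul_eq_mul, smul_eq_mul, smul_eq_mul, smul_eq_mul,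
          QuadraticMap.polar_comm _ z x]
        linear_combination τ * hτp + (τ * Q x + τ * σ * QuadraticMap.polar (⇑Q) x z) * h2
          - τ * τ * hp
      · rw [QuadraticMap.polar_add_right, QuadraticMap.polar_smul_right,
          QuadraticMap.polar_smul_right, c2_polar_self h2, smul_zero, add_zero, smul_eq_mul]
        exact mul_ne_zero (mul_ne_zero hτ0 hσ0) hzx
      · rw [QuadraticMap.polar_add_left, QuadraticMap.polar_smul_left,
          QuadraticMap.polar_smul_left, hne, smul_zero, add_zero, smul_eq_mul,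
          QuadraticMap.polar_comm _ z y]
        exact mul_ne_zero (mul_ne_zero hτ0 hσ0) hzy
  obtain ⟨hd₁, hm₁⟩ := c2_move h2 Q x w hw1 hw2
  obtain ⟨hd₂, hm₂⟩ := c2_move h2 Q w y (by rw [hxy, hw1]) hw3
  refine ⟨(reflEquiv Q (w - x) hd₁).trans (reflEquiv Q (y - w) hd₂),
    htrans _ _ (hI _ hd₁) (hI _ hd₂), ?_⟩
  rw [LinearEquiv.trans_apply, hm₁, hm₂]

theorem cd2_stab [Fintype F] [FiniteDimensional F V]
    (Q : QuadraticForm F V) (hQ : (QuadraticMap.polarBilin Q).Nondegenerate) (h2 : (2 : F) = 0)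
    (I : (V ≃ₗ[F] V) → Prop) (hrefl : I (LinearEquiv.refl F V))
    (htrans : ∀ g₁ g₂, I g₁ → I g₂ → I (g₁.trans g₂))
    (hI : ∀ v (hv : Q v ≠ 0), I (reflEquiv Q v hv))
    (hIso : ∀ g, I g → ∀ v, Q (g v) = Q v)
    (u : V) (hu : Q u ≠ 0) (f : V →ₗ[F] V) (hf : ∀ v, Q (f v) = Q v) (hfu : f u = u) :
    ∃ g, I g ∧ ∀ v, g v = f v := by
  classical
  obtain ⟨B, hBdef⟩ : ∃ B : LinearMap.BilinForm F V, B = QuadraticMap.polarBilin Q := ⟨_, rfl⟩
  rw [← hBdef] at hQ
  have hBp : ∀ a b, B a b = QuadraticMap.polar (⇑Q) a b := by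
    intro a b
    rw [hBdef]
    rfl
  have hQ1 : ∀ a b, Q (a + b) = Q a + Q b + B a b := by
    intro a b
    rw [hBp]
    exact kit_add Q a b
  have hQ2 : ∀ (c : F) a, Q (c • a) = c * c * Q a := by
    intro c a
    rw [QuadraticMap.map_smul, smul_eq_mul]
  have hsym : ∀ a b, B a b = B b a := by
    intro a b
    rw [hBp, hBp, QuadraticMap.polar_comm]
  have hself : ∀ a, B a a = 0 := by
    intro a
    rw [hBp]
    exact c2_polar_self h2 Q a
  have hpres : ∀ φ : V →ₗ[F] V, (∀ v, Q (φ v) = Q v) → ∀ a b, B (φ a) (φ b) = B a b := by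
    intro φ hφ a b
    have h1 := hQ1 (φ a) (φ b)
    rw [← map_add φ a b, hφ, hφ, hφ, hQ1 a b] at h1
    exact (add_left_cancel h1).symm
  have hpresE : ∀ ρ : V ≃ₗ[F] V, (∀ v, Q (ρ v) = Q v) → ∀ a b, B (ρ a) (ρ b) = B a b :=
    fun ρ hρ a b => hpres (ρ : V →ₗ[F] V) hρ a b
  have hRA : ∀ v (hv : Q v ≠ 0) (x : V),
      reflEquiv Q v hv x = x + ((Q v)⁻¹ * B v x) • v := by
    intro v hv x
    rw [c2_refl_apply h2, hBp]
  have hu0 : u ≠ 0 := fun h0 => hu (by rw [h0, map_zero])
  obtain ⟨w₀, hw₀⟩ : ∃ w₀, B u w₀ ≠ 0 := by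
    by_contra hcon
    push Not at hcon
    exact hu0 (hQ.1 u hcon)
  obtain ⟨w, hw⟩ : ∃ w, w = (B u w₀)⁻¹ • w₀ := ⟨_, rfl⟩
  have huw : B u w = 1 := by
    rw [hw, map_smul, smul_eq_mul, inv_mul_cancel₀ hw₀]
  have hwu : B w u = 1 := by rw [hsym, huw]
  obtain ⟨X, hX⟩ : ∃ X : Submodule F V, X = LinearMap.ker (B u) ⊓ LinearMap.ker (B w) :=
    ⟨_, rfl⟩
  have hXmem : ∀ v, v ∈ X ↔ B u v = 0 ∧ B w v = 0 := by
    intro v
    rw [hX, Submodule.mem_inf, LinearMap.mem_ker, LinearMap.mem_ker]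
  have hdec : ∀ v, v - B w v • u - B u v • w ∈ X := by
    intro v
    rw [hXmem]
    constructor
    · simp only [map_sub, map_smul, smul_eq_mul, hself, huw]
      ring
    · simp only [map_sub, map_smul, smul_eq_mul, hself, hwu]
      ring
  have hall : ∀ d, B u d = 0 → B w d = 0 → (∀ x ∈ X, B x d = 0) → d = 0 := by
    intro d h1 h3 h4
    apply hQ.2 d
    intro v
    have h5 : v = (v - B w v • u - B u v • w) + B w v • u + B u v • w := by abel
    rw [h5]
    simp only [map_add, map_smul, LinearMap.add_apply, LinearMap.smul_apply, smul_eq_mul, h1, h3,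
      h4 _ (hdec v)]
    ring
  have hBadd : ∀ (a b : V) (la lb : F), B u a = 0 → B u b = 0 →
      B (a + la • u) (b + lb • u) = B a b := by
    intro a b la lb ha hb
    have h1 : B a u = 0 := by rw [hsym, ha]
    simp only [map_add, map_smul, LinearMap.add_apply, LinearMap.smul_apply, smul_eq_mul, hself,
      hb, h1]
    ring
  obtain ⟨BX, hBX⟩ : ∃ BX : LinearMap.BilinForm F ↥X, ∀ a b : ↥X, BX a b = B (a : V) (b : V) :=
    ⟨B.restrict X, fun a b => rfl⟩
  have hBXalt : BX.IsAlt := fun a => by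
    rw [hBX]
    exact hself _
  have hBXnd : BX.Nondegenerate := by
    have key : ∀ a : ↥X, (∀ b : ↥X, B (b : V) (a : V) = 0) → a = 0 := by
      intro a ha
      apply Subtype.ext
      have haX := (hXmem a).1 a.2
      exact hall a haX.1 haX.2 (fun x hx => ha ⟨x, hx⟩)
    refine ⟨fun a ha => key a (fun b => ?_), fun a ha => key a (fun b => ?_)⟩
    · rw [hsym, ← hBX]
      exact ha b
    · rw [← hBX]
      exact ha b
  obtain ⟨IX, hIX⟩ : ∃ IX : (↥X ≃ₗ[F] ↥X) → Prop, ∀ g, IX g ↔
      ∃ ρ : V ≃ₗ[F] V, I ρ ∧ ρ u = u ∧ ∀ v : ↥X, ∃ l : F, ρ (v : V) = (g v : V) + l • u :=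
    ⟨fun g => ∃ ρ : V ≃ₗ[F] V, I ρ ∧ ρ u = u ∧
      ∀ v : ↥X, ∃ l : F, ρ (v : V) = (g v : V) + l • u, fun g => Iff.rfl⟩
  have hIXrefl : IX (LinearEquiv.refl F ↥X) := by
    rw [hIX]
    refine ⟨LinearEquiv.refl F V, hrefl, rfl, fun v => ⟨0, ?_⟩⟩
    rw [zero_smul, add_zero]
    rfl
  have hIXtrans : ∀ g₁ g₂, IX g₁ → IX g₂ → IX (g₁.trans g₂) := by
    intro g₁ g₂ h1 h3
    rw [hIX] at h1 h3 ⊢
    obtain ⟨ρ₁, hρ₁, hρ₁u, hρ₁X⟩ := h1
    obtain ⟨ρ₂, hρ₂, hρ₂u, hρ₂X⟩ := h3
    refine ⟨ρ₁.trans ρ₂, htrans _ _ hρ₁ hρ₂, ?_, fun v => ?_⟩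
    · rw [LinearEquiv.trans_apply, hρ₁u, hρ₂u]
    · obtain ⟨l₁, hl₁⟩ := hρ₁X v
      obtain ⟨l₂, hl₂⟩ := hρ₂X (g₁ v)
      refine ⟨l₂ + l₁, ?_⟩
      simp only [LinearEquiv.trans_apply]
      rw [hl₁, map_add, map_smul, hρ₂u, hl₂, add_smul, add_assoc]
  have hIXtv : ∀ c w', IX (Cfsg.Agent.S0749.transv BX hBXalt c w') := by
    intro c w'
    rw [hIX]
    by_cases hc : c = 0
    · refine ⟨LinearEquiv.refl F V, hrefl, rfl, fun v => ⟨0, ?_⟩⟩
      rw [zero_smul, add_zero]
      change (v : V) = ((v + (c * BX v w') • w' : ↥X) : V)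
      rw [hc, zero_mul, zero_smul, add_zero]
    · have hsq : IsSquare ((c⁻¹ - Q (w' : V)) / Q u) :=
        FiniteField.isSquare_of_char_two
          (CharP.ringChar_of_prime_eq_zero Nat.prime_two (by exact_mod_cast h2)) _
      obtain ⟨t, ht⟩ := hsq
      have hw'X := (hXmem w').1 w'.2
      obtain ⟨x', hx'⟩ : ∃ x' : V, x' = (w' : V) + t • u := ⟨_, rfl⟩
      have hQx' : Q x' = c⁻¹ := by
        rw [hx', hQ1, hQ2, map_smul, hsym, hw'X.1, smul_zero, add_zero]
        have h5 : t * t * Q u = c⁻¹ - Q (w' : V) := by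
          rw [← ht]
          field_simp
        rw [h5]
        ring
      have hx'0 : Q x' ≠ 0 := by
        rw [hQx']
        exact inv_ne_zero hc
      refine ⟨reflEquiv Q x' hx'0, hI _ hx'0, ?_, fun v => ?_⟩
      · have h7 : B x' u = 0 := by
          rw [hx']
          simp only [map_add, map_smul, LinearMap.add_apply, LinearMap.smul_apply, hself,
            hsym (w' : V) u, hw'X.1, smul_zero, add_zero]
        rw [hRA, h7, mul_zero, zero_smul, add_zero]
      · have hvX := (hXmem v).1 v.2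
        refine ⟨c * B (w' : V) (v : V) * t, ?_⟩
        rw [hRA, hQx', inv_inv]
        have h6 : B x' (v : V) = B (w' : V) (v : V) := by
          rw [hx']
          simp only [map_add, map_smul, LinearMap.add_apply, LinearMap.smul_apply, hvX.1,
            smul_zero, add_zero]
        rw [h6, hx']
        change _ = ((v + (c * BX v w') • w' : ↥X) : V) + _
        rw [Submodule.coe_add, Submodule.coe_smul, hBX, hsym (v : V) (w' : V), smul_add,
          smul_smul, add_assoc]
  have hIXiso : ∀ g, IX g → ∀ a b, BX (g a) (g b) = BX a b := by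
    intro g hg a b
    rw [hIX] at hg
    obtain ⟨ρ, hρ, hρu, hρX⟩ := hg
    obtain ⟨la, hla⟩ := hρX a
    obtain ⟨lb, hlb⟩ := hρX b
    have h5 := hpresE ρ (hIso ρ hρ) (a : V) (b : V)
    rw [hla, hlb, hBadd _ _ _ _ ((hXmem (g a)).1 (g a).2).1 ((hXmem (g b)).1 (g b).2).1] at h5
    rw [hBX, hBX]
    exact h5
  have hfuX : ∀ v : V, B u v = 0 → B u (f v) = 0 := by
    intro v hv
    have := hpres f hf u v
    rw [hfu] at this
    rw [this]
    exact hv
  obtain ⟨fX, hfX⟩ : ∃ fX : ↥X →ₗ[F] ↥X,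
      ∀ v : ↥X, (fX v : V) = f (v : V) + B w (f (v : V)) • u := by
    refine ⟨LinearMap.codRestrict X ((f + ((B w).comp f).smulRight u).comp X.subtype)
      (fun v => ?_), fun v => rfl⟩
    have hvX := (hXmem v).1 v.2
    rw [hXmem]
    change B u (f (v : V) + B w (f (v : V)) • u) = 0 ∧
      B w (f (v : V) + B w (f (v : V)) • u) = 0
    constructor
    · rw [map_add, map_smul, hself, hfuX _ hvX.1, smul_zero, add_zero]
    · rw [map_add, map_smul, hwu, smul_eq_mul, mul_one]
      linear_combination (B w (f (v : V))) * h2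
  have hfXB : ∀ a b, BX (fX a) (fX b) = BX a b := by
    intro a b
    rw [hBX, hBX, hfX, hfX]
    have haX := (hXmem a).1 a.2
    have hbX := (hXmem b).1 b.2
    rw [hBadd _ _ _ _ (hfuX _ haX.1) (hfuX _ hbX.1)]
    exact hpres f hf _ _
  obtain ⟨gX, hgX, hgXf⟩ := sp_gen BX hBXnd hBXalt IX hIXrefl hIXtrans hIXtv hIXiso fX hfXB
  rw [hIX] at hgX
  obtain ⟨ρ, hρ, hρu, hρX⟩ := hgX
  have hρQ : ∀ v, Q (ρ v) = Q v := hIso ρ hρ
  have hρsQ : ∀ v, Q (ρ.symm v) = Q v := by
    intro v
    have := hρQ (ρ.symm v)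
    rw [ρ.apply_symm_apply] at this
    exact this.symm
  obtain ⟨k, hk⟩ : ∃ k : V →ₗ[F] V, ∀ v, k v = ρ.symm (f v) :=
    ⟨(ρ.symm : V →ₗ[F] V).comp f, fun v => rfl⟩
  have hkQ : ∀ v, Q (k v) = Q v := fun v => by rw [hk, hρsQ, hf]
  have hkB := hpres k hkQ
  have hρsu : ρ.symm u = u := by
    rw [LinearEquiv.symm_apply_eq, hρu]
  have hku : k u = u := by rw [hk, hfu, hρsu]
  have hkX : ∀ x ∈ X, k x = x := by
    intro x hx
    obtain ⟨l, hl⟩ := hρX ⟨x, hx⟩
    rw [hgXf, hfX] at hl
    have hxX := (hXmem x).1 hx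
    obtain ⟨l', hl'⟩ : ∃ l' : F, ρ x = f x + l' • u := by
      refine ⟨B w (f x) + l, ?_⟩
      rw [add_smul, ← add_assoc]
      exact hl
    have h6 : x = k x + l' • u := by
      have h7 := congrArg ρ.symm hl'
      rw [ρ.symm_apply_apply, map_add, map_smul, hρsu, ← hk] at h7
      exact h7
    have h8 : B (k x) u = 0 := by
      have := hkB x u
      rw [hku] at this
      rw [this, hsym]
      exact hxX.1
    have h9 : l' * l' * Q u = 0 := by
      have h10 := congrArg Q h6
      rw [hQ1, hQ2, map_smul, h8, smul_zero, add_zero, hkQ] at h10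
      linear_combination -h10
    have hl0 : l' = 0 := by
      rcases mul_eq_zero.1 h9 with h11 | h11
      · exact mul_self_eq_zero.1 h11
      · exact absurd h11 hu
    rw [hl0, zero_smul, add_zero] at h6
    exact h6.symm
  obtain ⟨μ, hμ⟩ : ∃ μ, μ = B w (k w) := ⟨_, rfl⟩
  have hkw : k w = w + μ • u := by
    have h5 : k w - w - μ • u = 0 := by
      apply hall
      · have h6 : B u (k w) = 1 := by
          have := hkB u w
          rw [hku] at this
          rw [this, huw]
        simp only [map_sub, map_smul, hself, h6, huw, smul_zero]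
        ring
      · simp only [map_sub, map_smul, hself, hwu, ← hμ, smul_eq_mul]
        ring
      · intro x hx
        have hxX := (hXmem x).1 hx
        have h6 : B x (k w) = 0 := by
          have := hkB x w
          rw [hkX x hx] at this
          rw [this, hsym]
          exact hxX.2
        have h7 : B x u = 0 := by
          rw [hsym]
          exact hxX.1
        have h8 : B x w = 0 := by
          rw [hsym]
          exact hxX.2
        simp only [map_sub, map_smul, h6, h7, h8, smul_zero]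
        ring
    have h9 : k w = (k w - w - μ • u) + w + μ • u := by abel
    rw [h9, h5, zero_add]
  have hμeq : μ * (μ * Q u + 1) = 0 := by
    have h5 := hkQ w
    rw [hkw, hQ1, hQ2, map_smul, hwu, smul_eq_mul, mul_one] at h5
    linear_combination h5
  have hext : ∀ φ ψ : V →ₗ[F] V, φ u = ψ u → φ w = ψ w → (∀ x ∈ X, φ x = ψ x) →
      ∀ v, φ v = ψ v := by
    intro φ ψ h5 h6 h7 v
    have h8 : v = (v - B w v • u - B u v • w) + B w v • u + B u v • w := by abel
    rw [h8]
    simp only [map_add, map_smul, h5, h6, h7 _ (hdec v)]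
  rcases mul_eq_zero.1 hμeq with hμ0 | hμ1
  · refine ⟨ρ, hρ, fun v => ?_⟩
    have h5 := hext k LinearMap.id hku (by rw [hkw, hμ0, zero_smul, add_zero]; rfl)
      (fun x hx => hkX x hx) v
    rw [hk] at h5
    have h6 := congrArg ρ h5
    rw [ρ.apply_symm_apply] at h6
    exact h6.symm
  · refine ⟨(reflEquiv Q u hu).trans ρ, htrans _ _ (hI u hu) hρ, fun v => ?_⟩
    have hμv : μ = (Q u)⁻¹ := by
      have : μ * Q u = 1 := by linear_combination hμ1 - h2
      exact eq_inv_of_mul_eq_one_left this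
    have hA1 : k u = (reflEquiv Q u hu : V →ₗ[F] V) u := by
      rw [hku]
      change u = reflEquiv Q u hu u
      rw [hRA, hself, mul_zero, zero_smul, add_zero]
    have hA2 : k w = (reflEquiv Q u hu : V →ₗ[F] V) w := by
      rw [hkw]
      change _ = reflEquiv Q u hu w
      rw [hRA, huw, mul_one, hμv]
    have hA3 : ∀ x ∈ X, k x = (reflEquiv Q u hu : V →ₗ[F] V) x := by
      intro x hx
      rw [hkX x hx]
      change x = reflEquiv Q u hu x
      rw [hRA, ((hXmem x).1 hx).1, mul_zero, zero_smul, add_zero]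
    have h5 := hext k (reflEquiv Q u hu : V →ₗ[F] V) hA1 hA2 hA3 v
    rw [hk] at h5
    have h6 := congrArg ρ h5
    rw [ρ.apply_symm_apply] at h6
    rw [LinearEquiv.trans_apply]
    exact h6.symm

theorem cd_gen2 [Fintype F] [FiniteDimensional F V]
    (Q : QuadraticForm F V) (hQ : (QuadraticMap.polarBilin Q).Nondegenerate) (h2 : (2 : F) = 0)
    (h : Fintype.card F ≠ 2 ∨ Module.finrank F V ≠ 4)
    (I : (V ≃ₗ[F] V) → Prop) (hrefl : I (LinearEquiv.refl F V))
    (htrans : ∀ g₁ g₂, I g₁ → I g₂ → I (g₁.trans g₂))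
    (hI : ∀ v (hv : Q v ≠ 0), I (reflEquiv Q v hv))
    (hIso : ∀ g, I g → ∀ v, Q (g v) = Q v)
    (f : V →ₗ[F] V) (hf : ∀ v, Q (f v) = Q v) : ∃ g, I g ∧ ∀ v, g v = f v := by
  by_cases hex : ∃ u, Q u ≠ 0
  · obtain ⟨u, hu⟩ := hex
    obtain ⟨ρ₁, hρ₁, hρ₁u⟩ := cd2_trans Q hQ h2 h I hrefl htrans hI u (f u) hu (hf u)
    have hρsQ : ∀ v, Q (ρ₁.symm v) = Q v := by
      intro v
      have := hIso ρ₁ hρ₁ (ρ₁.symm v)
      rw [ρ₁.apply_symm_apply] at this
      exact this.symm
    obtain ⟨g₂, hg₂, hg₂f⟩ := cd2_stab Q hQ h2 I hrefl htrans hI hIso u hu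
      ((ρ₁.symm : V →ₗ[F] V).comp f)
      (fun v => by
        change Q (ρ₁.symm (f v)) = Q v
        rw [hρsQ, hf])
      (by
        change ρ₁.symm (f u) = u
        rw [← hρ₁u, ρ₁.symm_apply_apply])
    refine ⟨g₂.trans ρ₁, htrans _ _ hg₂ hρ₁, fun v => ?_⟩
    rw [LinearEquiv.trans_apply, hg₂f]
    change ρ₁ (ρ₁.symm (f v)) = f v
    rw [ρ₁.apply_symm_apply]
  · push Not at hex
    have h0 : ∀ v : V, v = 0 := by
      intro v
      apply hQ.1 v
      intro y
      change QuadraticMap.polar (⇑Q) v y = 0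
      rw [kit_polar_def, hex, hex, hex]
      ring
    exact ⟨LinearEquiv.refl F V, hrefl, fun v => by rw [h0 (f v)]; exact h0 _⟩

end CD2

end Cfsg.Agent.Helper5
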