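import Mathlib
import Cfsg.Agent.Helper5.PerpKit

/-!
Maximal totally singular subspaces of a `2m`-dimensional quadratic space with non-degenerate
polar form (any characteristic): for three such subspaces the dimensions of the pairwise
intersections add up to `m` modulo `2`. Consequently `g ↦ m - dim (E ∩ gE) (mod 2)` is additive
on isometries.
-/

set_option autoImplicit false

namespace Cfsg.Agent.Helper5

section

variable {F V : Type*} [Field F] [AddCommGroup V] [Module F V]

/-- Totally singular subspaces of dimension `m`. -/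
def IsMTS (Q : QuadraticForm F V) (m : ℕ) (U : Submodule F V) : Prop :=
  Module.finrank F U = m ∧ ∀ u ∈ U, Q u = 0

theorem ts_polar (Q : QuadraticForm F V) (U : Submodule F V) (hU : ∀ u ∈ U, Q u = 0) (x y : V)
    (hx : x ∈ U) (hy : y ∈ U) : QuadraticMap.polar (⇑Q) x y = 0 := by
  rw [kit_polar_def, hU _ (U.add_mem hx hy), hU x hx, hU y hy]
  simp

theorem le_or_le_of_union (Y A B : Submodule F V) (h : ∀ y ∈ Y, y ∈ A ∨ y ∈ B) :
    Y ≤ A ∨ Y ≤ B := by
  by_contra hcon
  push Not at hcon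
  obtain ⟨h1, h2⟩ := hcon
  obtain ⟨y1, hy1, hy1A⟩ := SetLike.not_le_iff_exists.1 h1
  obtain ⟨y2, hy2, hy2B⟩ := SetLike.not_le_iff_exists.1 h2
  have hy1B : y1 ∈ B := (h y1 hy1).resolve_left hy1A
  have hy2A : y2 ∈ A := (h y2 hy2).resolve_right hy2B
  rcases h (y1 + y2) (Y.add_mem hy1 hy2) with h3 | h3
  · exact hy1A (by simpa using A.sub_mem h3 hy2A)
  · exact hy2B (by simpa using B.sub_mem h3 hy1B)

theorem mem_perp_iff (Q : QuadraticForm F V) (U : Submodule F V) (x : V) :
    x ∈ LinearMap.BilinForm.orthogonal (QuadraticMap.polarBilin Q) U ↔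
      ∀ n ∈ U, QuadraticMap.polar (⇑Q) n x = 0 := Iff.rfl

theorem perp_sup_eq (Q : QuadraticForm F V) (A B : Submodule F V) :
    LinearMap.BilinForm.orthogonal (QuadraticMap.polarBilin Q) (A ⊔ B)
      = LinearMap.BilinForm.orthogonal (QuadraticMap.polarBilin Q) A
        ⊓ LinearMap.BilinForm.orthogonal (QuadraticMap.polarBilin Q) B := by
  apply le_antisymm
  · exact le_inf (LinearMap.BilinForm.orthogonal_le le_sup_left)
      (LinearMap.BilinForm.orthogonal_le le_sup_right)
  · rintro x ⟨hxA, hxB⟩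
    rw [mem_perp_iff]
    intro n hn
    obtain ⟨a, ha, b, hb, rfl⟩ := Submodule.mem_sup.1 hn
    rw [QuadraticMap.polar_add_left, (mem_perp_iff Q A x).1 hxA a ha,
      (mem_perp_iff Q B x).1 hxB b hb, add_zero]

theorem mem_perp_span_iff (Q : QuadraticForm F V) (x y : V) :
    y ∈ LinearMap.BilinForm.orthogonal (QuadraticMap.polarBilin Q) (Submodule.span F {x}) ↔
      QuadraticMap.polar (⇑Q) x y = 0 := by
  rw [mem_perp_iff]
  constructor
  · intro h
    exact h x (Submodule.mem_span_singleton_self x)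
  · intro h n hn
    obtain ⟨c, rfl⟩ := Submodule.mem_span_singleton.1 hn
    rw [QuadraticMap.polar_smul_left, h, smul_zero]

theorem lt_sup_span (K : Submodule F V) (x : V) (hx : x ∉ K) : K < K ⊔ Submodule.span F {x} := by
  apply lt_of_le_of_ne le_sup_left
  intro heq
  apply hx
  rw [heq]
  exact mem_sup_span_self K x

variable [FiniteDimensional F V]

theorem mts_perp {m : ℕ} (Q : QuadraticForm F V) (hV : Module.finrank F V = 2 * m)
    (hQ : (QuadraticMap.polarBilin Q).Nondegenerate) (U : Submodule F V) (hU : IsMTS Q m U) :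
    LinearMap.BilinForm.orthogonal (QuadraticMap.polarBilin Q) U = U := by
  symm
  apply Submodule.eq_of_le_of_finrank_eq
  · intro x hx
    rw [mem_perp_iff]
    intro n hn
    exact ts_polar Q U hU.2 n x hn hx
  · rw [LinearMap.BilinForm.finrank_orthogonal hQ U, hV, hU.1]
    omega

theorem finrank_perp_span {m : ℕ} (Q : QuadraticForm F V) (hV : Module.finrank F V = 2 * m)
    (hQ : (QuadraticMap.polarBilin Q).Nondegenerate) (x : V) (hx : x ≠ 0) :
    Module.finrank F ↥(LinearMap.BilinForm.orthogonal (QuadraticMap.polarBilin Q)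
      (Submodule.span F {x})) + 1 = 2 * m := by
  rw [LinearMap.BilinForm.finrank_orthogonal hQ, hV, finrank_span_singleton hx]
  have h0 : 0 < Module.finrank F V := Module.finrank_pos_iff_exists_ne_zero.2 ⟨x, hx⟩
  omega

/-- Adjacent maximal totally singular subspaces meet a third one in dimensions differing by
exactly one. -/
theorem mts_adjacent {m : ℕ} (Q : QuadraticForm F V) (hV : Module.finrank F V = 2 * m)
    (hQ : (QuadraticMap.polarBilin Q).Nondegenerate) (E1 E2 E2' : Submodule F V)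
    (h1 : IsMTS Q m E1) (h2 : IsMTS Q m E2) (h2' : IsMTS Q m E2')
    (hadj : Module.finrank F ↥(E2 ⊓ E2') + 1 = m) :
    Module.finrank F ↥(E1 ⊓ E2) = Module.finrank F ↥(E1 ⊓ E2') + 1 ∨
    Module.finrank F ↥(E1 ⊓ E2') = Module.finrank F ↥(E1 ⊓ E2) + 1 := by
  obtain ⟨K, hK⟩ : ∃ K, K = E2 ⊓ E2' := ⟨_, rfl⟩
  obtain ⟨Kp, hKp⟩ : ∃ Kp, Kp = LinearMap.BilinForm.orthogonal (QuadraticMap.polarBilin Q) K :=
    ⟨_, rfl⟩
  rw [← hK] at hadj
  have hKE2 : K ≤ E2 := by
    rw [hK]
    exact inf_le_left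
  have hKE2' : K ≤ E2' := by
    rw [hK]
    exact inf_le_right
  have ha : E2 ≤ Kp := by
    intro x hx
    rw [hKp, mem_perp_iff]
    intro n hn
    exact ts_polar Q E2 h2.2 n x (hKE2 hn) hx
  have ha' : E2' ≤ Kp := by
    intro x hx
    rw [hKp, mem_perp_iff]
    intro n hn
    exact ts_polar Q E2' h2'.2 n x (hKE2' hn) hx
  have hKpdim : Module.finrank F Kp = m + 1 := by
    rw [hKp, LinearMap.BilinForm.finrank_orthogonal hQ K, hV]
    omega
  have hsup : E2 ⊔ E2' = Kp := by
    apply Submodule.eq_of_le_of_finrank_eq (sup_le ha ha')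
    have h5 := Submodule.finrank_sup_add_finrank_inf_eq E2 E2'
    rw [← hK, h2.1, h2'.1] at h5
    omega
  have hsing : ∀ z ∈ Kp, Q z = 0 → z ∈ E2 ∨ z ∈ E2' := by
    intro z hz hQz
    rw [← hsup] at hz
    obtain ⟨x, hx, x', hx', rfl⟩ := Submodule.mem_sup.1 hz
    have hB : QuadraticMap.polar (⇑Q) x x' = 0 := by
      have h5 := kit_add Q x x'
      rw [hQz, h2.2 x hx, h2'.2 x' hx'] at h5
      linear_combination -h5
    by_cases hxE : x ∈ E2'
    · exact Or.inr (E2'.add_mem hxE hx')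
    · left
      apply E2.add_mem hx
      have hxK : x ∉ K := fun h => hxE (hKE2' h)
      have hle : K ⊔ Submodule.span F {x} ≤ E2 :=
        sup_le hKE2 ((Submodule.span_singleton_le_iff_mem x E2).2 hx)
      have hE2 : K ⊔ Submodule.span F {x} = E2 := by
        apply Submodule.eq_of_le_of_finrank_eq hle
        have h3 := Submodule.finrank_lt_finrank_of_lt (lt_sup_span K x hxK)
        have h4 := Submodule.finrank_mono hle
        rw [h2.1] at h4 ⊢
        omega
      rw [← mts_perp Q hV hQ E2 h2, mem_perp_iff]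
      intro y hy
      rw [← hE2] at hy
      obtain ⟨k, hk, t, ht, rfl⟩ := Submodule.mem_sup.1 hy
      obtain ⟨c, rfl⟩ := Submodule.mem_span_singleton.1 ht
      rw [QuadraticMap.polar_add_left, QuadraticMap.polar_smul_left, hB, smul_zero, add_zero]
      exact ts_polar Q E2' h2'.2 k x' (hKE2' hk) hx'
  obtain ⟨Y, hY⟩ : ∃ Y, Y = E1 ⊓ Kp := ⟨_, rfl⟩
  have hYE1 : Y ≤ E1 := by
    rw [hY]
    exact inf_le_left
  have hYcases : Y ≤ E2 ∨ Y ≤ E2' := by
    apply le_or_le_of_union
    intro y hy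
    rw [hY] at hy
    exact hsing y hy.2 (h1.2 y hy.1)
  have hYdim : Module.finrank F Y = Module.finrank F ↥(E1 ⊓ K) + 1 := by
    have h5 : Y = LinearMap.BilinForm.orthogonal (QuadraticMap.polarBilin Q) (E1 ⊔ K) := by
      rw [hY, hKp, perp_sup_eq, mts_perp Q hV hQ E1 h1]
    have h6 := LinearMap.BilinForm.finrank_orthogonal hQ (E1 ⊔ K)
    rw [← h5] at h6
    have h7 := Submodule.finrank_sup_add_finrank_inf_eq E1 K
    have h8 := Submodule.finrank_le (E1 ⊔ K)
    rw [h1.1] at h7
    rw [hV] at h6 h8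
    omega
  rcases hYcases with hc | hc
  · left
    have e1 : E1 ⊓ E2 = Y := by
      apply le_antisymm
      · rw [hY]
        exact inf_le_inf_left _ ha
      · exact le_inf hYE1 hc
    have e2 : E1 ⊓ E2' = E1 ⊓ K := by
      apply le_antisymm
      · intro x hx
        have hxY : x ∈ Y := by
          rw [hY]
          exact ⟨hx.1, ha' hx.2⟩
        refine ⟨hx.1, ?_⟩
        rw [hK]
        exact ⟨hc hxY, hx.2⟩
      · exact inf_le_inf_left _ hKE2'
    rw [e1, e2, hYdim]
  · right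
    have e1 : E1 ⊓ E2' = Y := by
      apply le_antisymm
      · rw [hY]
        exact inf_le_inf_left _ ha'
      · exact le_inf hYE1 hc
    have e2 : E1 ⊓ E2 = E1 ⊓ K := by
      apply le_antisymm
      · intro x hx
        have hxY : x ∈ Y := by
          rw [hY]
          exact ⟨hx.1, ha hx.2⟩
        refine ⟨hx.1, ?_⟩
        rw [hK]
        exact ⟨hx.2, hc hxY⟩
      · exact inf_le_inf_left _ hKE2
    rw [e1, e2, hYdim]

/-- A neighbour of `E2` one step closer to `E3`. -/
theorem mts_step {m : ℕ} (Q : QuadraticForm F V) (hV : Module.finrank F V = 2 * m)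
    (hQ : (QuadraticMap.polarBilin Q).Nondegenerate) (E2 E3 : Submodule F V)
    (h2 : IsMTS Q m E2) (h3 : IsMTS Q m E3) (hne : E2 ≠ E3) :
    ∃ E2' : Submodule F V, IsMTS Q m E2' ∧ Module.finrank F ↥(E2 ⊓ E2') + 1 = m ∧
      Module.finrank F ↥(E2' ⊓ E3) = Module.finrank F ↥(E2 ⊓ E3) + 1 := by
  have hex : ∃ x ∈ E3, x ∉ E2 := by
    by_contra hcon
    push Not at hcon
    apply hne
    symm
    apply Submodule.eq_of_le_of_finrank_eq (fun x hx => hcon x hx)
    rw [h2.1, h3.1]
  obtain ⟨x, hx3, hx2⟩ := hex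
  have hx0 : x ≠ 0 := by
    rintro rfl
    exact hx2 E2.zero_mem
  have hQx : Q x = 0 := h3.2 x hx3
  obtain ⟨H, hH⟩ : ∃ H, H = LinearMap.BilinForm.orthogonal (QuadraticMap.polarBilin Q)
    (Submodule.span F {x}) := ⟨_, rfl⟩
  have hHmem : ∀ y, y ∈ H ↔ QuadraticMap.polar (⇑Q) x y = 0 := by
    intro y
    rw [hH]
    exact mem_perp_span_iff Q x y
  have hHdim : Module.finrank F H + 1 = 2 * m := by
    rw [hH]
    exact finrank_perp_span Q hV hQ x hx0
  obtain ⟨K, hK⟩ : ∃ K, K = E2 ⊓ H := ⟨_, rfl⟩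
  have hKle : K ≤ E2 := by
    rw [hK]
    exact inf_le_left
  have hnotle : ¬ E2 ≤ H := by
    intro hle
    apply hx2
    rw [← mts_perp Q hV hQ E2 h2, mem_perp_iff]
    intro n hn
    rw [QuadraticMap.polar_comm]
    exact (hHmem n).1 (hle hn)
  have hKdim : Module.finrank F K + 1 = m := by
    have h5 := Submodule.finrank_sup_add_finrank_inf_eq E2 H
    have h6 := Submodule.finrank_le (E2 ⊔ H)
    have hlt : K < E2 := by
      apply lt_of_le_of_ne hKle
      intro heq
      apply hnotle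
      rw [← heq, hK]
      exact inf_le_right
    have h7 := Submodule.finrank_lt_finrank_of_lt hlt
    rw [← hK, h2.1] at h5
    rw [h2.1] at h7
    rw [hV] at h6
    omega
  have hxK : x ∉ K := fun h => hx2 (hKle h)
  have hE'dim : Module.finrank F ↥(K ⊔ Submodule.span F {x}) = m := by
    have h3' := Submodule.finrank_lt_finrank_of_lt (lt_sup_span K x hxK)
    have h4 := finrank_sup_span_le K x
    omega
  have hE'ts : ∀ u ∈ K ⊔ Submodule.span F {x}, Q u = 0 := by
    intro u hu
    obtain ⟨k, hk, t, ht, rfl⟩ := Submodule.mem_sup.1 hu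
    obtain ⟨c, rfl⟩ := Submodule.mem_span_singleton.1 ht
    have hkH : k ∈ H := by
      rw [hK] at hk
      exact hk.2
    rw [kit_add, QuadraticMap.map_smul, hQx, h2.2 k (hKle hk), QuadraticMap.polar_smul_right,
      QuadraticMap.polar_comm, (hHmem k).1 hkH]
    simp
  have hmts' : IsMTS Q m (K ⊔ Submodule.span F {x}) := ⟨hE'dim, hE'ts⟩
  have hadj : Module.finrank F ↥(E2 ⊓ (K ⊔ Submodule.span F {x})) + 1 = m := by
    have hle : K ≤ E2 ⊓ (K ⊔ Submodule.span F {x}) := le_inf hKle le_sup_left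
    have h5 := Submodule.finrank_mono hle
    have hlt : E2 ⊓ (K ⊔ Submodule.span F {x}) < E2 := by
      apply lt_of_le_of_ne inf_le_left
      intro heq
      have hE2le : E2 ≤ K ⊔ Submodule.span F {x} := by
        rw [← heq]
        exact inf_le_right
      have heq2 : E2 = K ⊔ Submodule.span F {x} :=
        Submodule.eq_of_le_of_finrank_eq hE2le (by rw [h2.1, hE'dim])
      apply hx2
      rw [heq2]
      exact mem_sup_span_self K x
    have h6 := Submodule.finrank_lt_finrank_of_lt hlt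
    rw [h2.1] at h6
    omega
  refine ⟨K ⊔ Submodule.span F {x}, hmts', hadj, ?_⟩
  rcases mts_adjacent Q hV hQ E3 E2 (K ⊔ Submodule.span F {x}) h3 h2 hmts' hadj with h | h
  · exfalso
    have hlt : E3 ⊓ E2 < E3 ⊓ (K ⊔ Submodule.span F {x}) := by
      apply lt_of_le_of_ne
      · intro y hy
        refine ⟨hy.1, Submodule.mem_sup_left ?_⟩
        rw [hK]
        exact ⟨hy.2, (hHmem y).2 (ts_polar Q E3 h3.2 x y hx3 hy.1)⟩
      · intro heq
        apply hx2
        have h5 : x ∈ E3 ⊓ (K ⊔ Submodule.span F {x}) := ⟨hx3, mem_sup_span_self K x⟩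
        rw [← heq] at h5
        exact h5.2
    have h6 := Submodule.finrank_lt_finrank_of_lt hlt
    omega
  · rw [inf_comm (K ⊔ Submodule.span F {x}) E3, inf_comm E2 E3]
    exact h

theorem mts_triangle_aux {m : ℕ} (Q : QuadraticForm F V) (hV : Module.finrank F V = 2 * m)
    (hQ : (QuadraticMap.polarBilin Q).Nondegenerate) :
    ∀ (k : ℕ) (E1 E2 E3 : Submodule F V), IsMTS Q m E1 → IsMTS Q m E2 → IsMTS Q m E3 →
      Module.finrank F ↥(E2 ⊓ E3) + k = m →
      (Module.finrank F ↥(E1 ⊓ E2) + Module.finrank F ↥(E2 ⊓ E3)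
        + Module.finrank F ↥(E1 ⊓ E3)) % 2 = m % 2 := by
  intro k
  induction k with
  | zero =>
    intro E1 E2 E3 h1 h2 h3 hk
    have e2 : E2 ⊓ E3 = E2 :=
      Submodule.eq_of_le_of_finrank_eq inf_le_left (by rw [h2.1]; omega)
    have e3 : E2 ⊓ E3 = E3 :=
      Submodule.eq_of_le_of_finrank_eq inf_le_right (by rw [h3.1]; omega)
    have e23 : E2 = E3 := e2.symm.trans e3
    rw [e23] at hk ⊢
    omega
  | succ k ih =>
    intro E1 E2 E3 h1 h2 h3 hk
    have hne : E2 ≠ E3 := by
      intro heq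
      rw [heq, inf_idem, h3.1] at hk
      omega
    obtain ⟨E2', hmts', hadj, hstep⟩ := mts_step Q hV hQ E2 E3 h2 h3 hne
    have h5 := ih E1 E2' E3 h1 hmts' h3 (by omega)
    rcases mts_adjacent Q hV hQ E1 E2 E2' h1 h2 hmts' hadj with h | h <;> omega

/-- Triangle parity for maximal totally singular subspaces. -/
theorem mts_triangle {m : ℕ} (Q : QuadraticForm F V) (hV : Module.finrank F V = 2 * m)
    (hQ : (QuadraticMap.polarBilin Q).Nondegenerate) (E1 E2 E3 : Submodule F V)
    (h1 : IsMTS Q m E1) (h2 : IsMTS Q m E2) (h3 : IsMTS Q m E3) :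
    (Module.finrank F ↥(E1 ⊓ E2) + Module.finrank F ↥(E2 ⊓ E3)
      + Module.finrank F ↥(E1 ⊓ E3)) % 2 = m % 2 := by
  have h5 := Submodule.finrank_mono (inf_le_left : E2 ⊓ E3 ≤ E2)
  rw [h2.1] at h5
  exact mts_triangle_aux Q hV hQ (m - Module.finrank F ↥(E2 ⊓ E3)) E1 E2 E3 h1 h2 h3 (by omega)

theorem mts_map {m : ℕ} (Q : QuadraticForm F V) (f : V →ₗ[F] V) (hf : Function.Injective f)
    (hfQ : ∀ v, Q (f v) = Q v) (U : Submodule F V) (hU : IsMTS Q m U) :
    IsMTS Q m (U.map f) := by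
  refine ⟨?_, ?_⟩
  · rw [← hU.1]
    exact (Submodule.equivMapOfInjective f hf U).finrank_eq.symm
  · rintro _ ⟨u, hu, rfl⟩
    rw [hfQ]
    exact hU.2 u hu

theorem finrank_map_inf (f : V →ₗ[F] V) (hf : Function.Injective f) (U W : Submodule F V) :
    Module.finrank F ↥(U.map f ⊓ W.map f) = Module.finrank F ↥(U ⊓ W) := by
  rw [← Submodule.map_inf f hf]
  exact (Submodule.equivMapOfInjective f hf (U ⊓ W)).finrank_eq.symm

/-- Additivity modulo two of the codimension of `E ∩ gE`. -/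
theorem mts_cocycle {m : ℕ} (Q : QuadraticForm F V) (hV : Module.finrank F V = 2 * m)
    (hQ : (QuadraticMap.polarBilin Q).Nondegenerate) (E : Submodule F V) (hE : IsMTS Q m E)
    (f g : V →ₗ[F] V) (hf : Function.Injective f) (hfQ : ∀ v, Q (f v) = Q v)
    (hg : Function.Injective g) (hgQ : ∀ v, Q (g v) = Q v) :
    (Module.finrank F ↥(E ⊓ E.map f) + Module.finrank F ↥(E ⊓ E.map g)
      + Module.finrank F ↥(E ⊓ E.map (f ∘ₗ g))) % 2 = m % 2 := by
  have hfg : Function.Injective (f ∘ₗ g) := hf.comp hg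
  have hfgQ : ∀ v, Q ((f ∘ₗ g) v) = Q v := by
    intro v
    rw [LinearMap.comp_apply, hfQ, hgQ]
  have h1 := mts_triangle Q hV hQ E (E.map f) (E.map (f ∘ₗ g)) hE (mts_map Q f hf hfQ E hE)
    (mts_map Q (f ∘ₗ g) hfg hfgQ E hE)
  have h2 : Module.finrank F ↥(E.map f ⊓ E.map (f ∘ₗ g)) = Module.finrank F ↥(E ⊓ E.map g) := by
    rw [Submodule.map_comp]
    exact finrank_map_inf f hf E (E.map g)
  rw [h2] at h1
  exact h1

/-- A reflection moves a maximal totally singular subspace to an adjacent one. -/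
theorem mts_refl {m : ℕ} (Q : QuadraticForm F V) (hV : Module.finrank F V = 2 * m)
    (hQ : (QuadraticMap.polarBilin Q).Nondegenerate) (E : Submodule F V) (hE : IsMTS Q m E)
    (v : V) (hv : Q v ≠ 0) (r : V →ₗ[F] V)
    (hr : ∀ x, r x = x - ((Q v)⁻¹ * QuadraticMap.polar (⇑Q) v x) • v) :
    Module.finrank F ↥(E ⊓ E.map r) + 1 = m := by
  have hv0 : v ≠ 0 := by
    rintro rfl
    exact hv (QuadraticMap.map_zero Q)
  have hvE : v ∉ E := fun h => hv (hE.2 v h)
  obtain ⟨H, hH⟩ : ∃ H, H = LinearMap.BilinForm.orthogonal (QuadraticMap.polarBilin Q)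
    (Submodule.span F {v}) := ⟨_, rfl⟩
  have hHmem : ∀ y, y ∈ H ↔ QuadraticMap.polar (⇑Q) v y = 0 := by
    intro y
    rw [hH]
    exact mem_perp_span_iff Q v y
  have hHdim : Module.finrank F H + 1 = 2 * m := by
    rw [hH]
    exact finrank_perp_span Q hV hQ v hv0
  have h1 : E ⊓ H ≤ E ⊓ E.map r := by
    intro x hx
    refine ⟨hx.1, ⟨x, hx.1, ?_⟩⟩
    rw [hr, (hHmem x).1 hx.2]
    simp
  have h2 := Submodule.finrank_mono h1
  have h3 := Submodule.finrank_sup_add_finrank_inf_eq E H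
  have h4 := Submodule.finrank_le (E ⊔ H)
  rw [hE.1] at h3
  rw [hV] at h4
  have h5 := Submodule.finrank_mono (inf_le_left : E ⊓ E.map r ≤ E)
  rw [hE.1] at h5
  have h6 : Module.finrank F ↥(E ⊓ E.map r) ≠ m := by
    intro heq
    have hle : E ≤ E.map r := by
      have e : E ⊓ E.map r = E :=
        Submodule.eq_of_le_of_finrank_eq (inf_le_left : E ⊓ E.map r ≤ E) (by rw [hE.1, heq])
      intro x hx
      have hx' : x ∈ E ⊓ E.map r := by
        rw [e]
        exact hx
      exact hx'.2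
    have hperp : ∀ x ∈ E, QuadraticMap.polar (⇑Q) v x = 0 := by
      intro x hx
      obtain ⟨y, hy, hyx⟩ := hle hx
      rw [hr] at hyx
      by_cases hc : (Q v)⁻¹ * QuadraticMap.polar (⇑Q) v y = 0
      · rw [hc, zero_smul, sub_zero] at hyx
        rw [← hyx]
        rcases mul_eq_zero.1 hc with h | h
        · exact absurd h (inv_ne_zero hv)
        · exact h
      · exfalso
        apply hvE
        have h7 : ((Q v)⁻¹ * QuadraticMap.polar (⇑Q) v y) • v ∈ E := by
          have h8 : ((Q v)⁻¹ * QuadraticMap.polar (⇑Q) v y) • v = y - x := by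
            rw [← hyx]
            abel
          rw [h8]
          exact E.sub_mem hy hx
        exact (Submodule.smul_mem_iff E hc).1 h7
    apply hvE
    rw [← mts_perp Q hV hQ E hE, mem_perp_iff]
    intro n hn
    rw [QuadraticMap.polar_comm]
    exact hperp n hn
  omega

end

end Cfsg.Agent.Helper5
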