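import Mathlib
import Cfsg.Agent.Helper5.OmegaCrit

/-!
Spinor norm of a product of reflections over a finite field of odd characteristic: such a
product lies in the commutator subgroup of the isometry group exactly when the number of
reflections is even and the product of the norms is a square. Application: the involution
negating a set of hyperbolic coordinate pairs.
-/

set_option autoImplicit false

open scoped Matrix

namespace Cfsg.Agent.Helper5

section

variable {F : Type*} [Field F] {κ : Type} [Fintype κ] [DecidableEq κ]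

/-- Every product of reflection matrices is the matrix of an isometry. -/
theorem exists_iso_of_refl_list (Q : QuadraticForm F (κ → F)) (vs : List (κ → F))
    (hvs : ∀ v ∈ vs, Q v ≠ 0) :
    ∃ g : ↥(Cfsg.isometryGroup F ⇑Q), ((g : Matrix.GeneralLinearGroup κ F) : Matrix κ κ F)
      = (vs.map (fun v => Cfsg.reflectionMatrix ⇑Q v)).prod := by
  induction vs with
  | nil => exact ⟨1, by simp⟩
  | cons v vs ih =>
    obtain ⟨g', hg'⟩ := ih (fun w hw => hvs w (List.mem_cons_of_mem _ hw))
    refine ⟨reflEl Q v (hvs v List.mem_cons_self) * g', ?_⟩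
    rw [List.map_cons, List.prod_cons, Subgroup.coe_mul, Units.val_mul, hg']
    rfl

variable [Fintype F]

open Classical in
/-- Sign character of norm one and determinant of a product of reflections. -/
theorem chi_refl_list (h2 : (2 : F) ≠ 0) (Q : QuadraticForm F (κ → F)) (vs : List (κ → F))
    (hvs : ∀ v ∈ vs, Q v ≠ 0) :
    ∀ g : ↥(Cfsg.isometryGroup F ⇑Q), ((g : Matrix.GeneralLinearGroup κ F) : Matrix κ κ F)
      = (vs.map (fun v => Cfsg.reflectionMatrix ⇑Q v)).prod →
      ((chi Q 1 g : ℤˣ) : ℤ) = (-1) ^ vs.length * quadraticChar F (vs.map (fun v => Q v)).prod ∧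
      ((g : Matrix.GeneralLinearGroup κ F) : Matrix κ κ F).det = (-1) ^ vs.length := by
  induction vs with
  | nil =>
    intro g hg
    have hg1 : g = 1 := by
      apply Subtype.ext
      apply Units.ext
      rw [hg]
      rfl
    rw [hg1]
    refine ⟨?_, ?_⟩
    · simp
    · simp
  | cons v vs ih =>
    intro g hg
    have hv : Q v ≠ 0 := hvs v List.mem_cons_self
    have hvs' : ∀ w ∈ vs, Q w ≠ 0 := fun w hw => hvs w (List.mem_cons_of_mem _ hw)
    obtain ⟨r, hr⟩ : ∃ r : ↥(Cfsg.isometryGroup F ⇑Q), r = reflEl Q v hv := ⟨_, rfl⟩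
    have hrm : ((r : Matrix.GeneralLinearGroup κ F) : Matrix κ κ F)
        = Cfsg.reflectionMatrix ⇑Q v := by
      rw [hr]
      rfl
    have hg' : (((r⁻¹ * g : ↥(Cfsg.isometryGroup F ⇑Q)) : Matrix.GeneralLinearGroup κ F) :
        Matrix κ κ F) = (vs.map (fun v => Cfsg.reflectionMatrix ⇑Q v)).prod := by
      rw [Subgroup.coe_mul, Units.val_mul, hg, List.map_cons, List.prod_cons, ← hrm, ← mul_assoc,
        ← Units.val_mul, ← Subgroup.coe_mul, inv_mul_cancel]
      simp
    obtain ⟨ih1, ih2⟩ := ih hvs' (r⁻¹ * g) hg'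
    have hgr : g = r * (r⁻¹ * g) := by group
    have hchr : ((chi Q 1 r : ℤˣ) : ℤ) = - quadraticChar F (Q v) := by
      obtain ⟨c1, c2⟩ := chi_refl h2 Q 1 one_ne_zero v hv r (by rw [hr]; exact actsRefl_reflEl Q v hv)
      by_cases hsq : IsSquare (Q v)
      · have h3 : ∃ t, t * t * Q v = 1 := by
          obtain ⟨s, hs⟩ := hsq
          have hs0 : s ≠ 0 := by
            rintro rfl
            apply hv
            rw [hs, mul_zero]
          refine ⟨s⁻¹, ?_⟩
          rw [hs]
          field_simp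
        rw [c1 h3, (quadraticChar_one_iff_isSquare hv).2 hsq]
        rfl
      · have h3 : ¬ ∃ t, t * t * Q v = 1 := by
          rintro ⟨t, ht⟩
          apply hsq
          have ht0 : t ≠ 0 := by
            rintro rfl
            simp at ht
          refine ⟨t⁻¹, ?_⟩
          field_simp
          linear_combination ht
        rw [c2 h3, quadraticChar_neg_one_iff_not_isSquare.2 hsq]
        simp
    refine ⟨?_, ?_⟩
    · have h5 : chi Q 1 g = chi Q 1 r * chi Q 1 (r⁻¹ * g) := by
        rw [← map_mul, ← hgr]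
      rw [h5, Units.val_mul, hchr, ih1, List.map_cons, List.prod_cons, map_mul,
        List.length_cons, pow_succ]
      ring
    · rw [hg, List.map_cons, List.prod_cons, Matrix.det_mul,
        Cfsg.Agent.Helper6.reflectionMatrix_det Q v hv, ← hg', ih2, List.length_cons, pow_succ]
      ring

/-- Spinor norm criterion: a product of reflections lies in the commutator subgroup of the
isometry group iff the number of reflections is even and the product of the norms is a
square. -/
theorem spinor_list (h2 : (2 : F) ≠ 0) (i₀ i₁ : κ) (hi : i₀ ≠ i₁) (Q : QuadraticForm F (κ → F))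
    (hQ : (QuadraticMap.polarBilin Q).Nondegenerate) (g : ↥(Cfsg.isometryGroup F ⇑Q))
    (vs : List (κ → F)) (hvs : ∀ v ∈ vs, Q v ≠ 0)
    (hg : ((g : Matrix.GeneralLinearGroup κ F) : Matrix κ κ F)
      = (vs.map (fun v => Cfsg.reflectionMatrix ⇑Q v)).prod) :
    g ∈ Cfsg.Omega F ⇑Q ↔ (Even vs.length ∧ IsSquare (vs.map (fun v => Q v)).prod) := by
  classical
  obtain ⟨hc, hd⟩ := chi_refl_list h2 Q vs hvs g hg
  have hne : (-1 : F) ≠ 1 := by
    intro h
    apply h2
    linear_combination -h
  have hp0 : (vs.map (fun v => Q v)).prod ≠ 0 := by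
    apply List.prod_ne_zero
    intro h0
    obtain ⟨v, hv, hv0⟩ := List.mem_map.1 h0
    exact hvs v hv hv0
  constructor
  · intro hgΩ
    obtain ⟨h1, h3⟩ := (omega_mem_iff h2 i₀ i₁ hi Q hQ g).1 hgΩ
    rw [hd] at h3
    have hev : Even vs.length := (neg_one_pow_eq_one_iff_even hne).1 h3
    refine ⟨hev, ?_⟩
    rw [h1, hev.neg_one_pow, one_mul] at hc
    exact (quadraticChar_one_iff_isSquare hp0).1 (by rw [← hc]; rfl)
  · rintro ⟨hev, hsq⟩
    apply (omega_mem_iff h2 i₀ i₁ hi Q hQ g).2
    refine ⟨?_, ?_⟩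
    · rw [hev.neg_one_pow, one_mul, (quadraticChar_one_iff_isSquare hp0).2 hsq] at hc
      exact Units.ext hc
    · rw [hd]
      exact hev.neg_one_pow

end

section Pairs

variable {F : Type*} [Field F] {κ : Type} [Fintype κ] [DecidableEq κ]

/-- The two reflections attached to a hyperbolic coordinate pair multiply to the negation of
the two coordinates. -/
theorem refl_pair_diag (Q : QuadraticForm F (κ → F)) (a b : κ) (hab : a ≠ b)
    (hQa : Q (Pi.single a 1) = 0) (hQb : Q (Pi.single b 1) = 0)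
    (hpa : ∀ x, QuadraticMap.polar (⇑Q) (Pi.single a 1) x = x b)
    (hpb : ∀ x, QuadraticMap.polar (⇑Q) (Pi.single b 1) x = x a) :
    Q (Pi.single a 1 + Pi.single b 1) = 1 ∧ Q (Pi.single a 1 - Pi.single b 1) = -1 ∧
    Cfsg.reflectionMatrix ⇑Q (Pi.single a 1 + Pi.single b 1)
      * Cfsg.reflectionMatrix ⇑Q (Pi.single a 1 - Pi.single b 1)
      = Matrix.diagonal (fun k => if k = a ∨ k = b then (-1 : F) else 1) := by
  have hu : Q (Pi.single a 1 + Pi.single b 1) = 1 := by
    rw [QuadraticMap.map_add (⇑Q) (Pi.single a 1) (Pi.single b 1), hQa, hQb, hpa,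
      Pi.single_eq_same]
    ring
  have hv : Q (Pi.single a 1 - Pi.single b 1) = -1 := by
    rw [sub_eq_add_neg, QuadraticMap.map_add (⇑Q) (Pi.single a 1) (-Pi.single b 1),
      QuadraticMap.map_neg, hQa, hQb, hpa, Pi.neg_apply, Pi.single_eq_same]
    ring
  refine ⟨hu, hv, ?_⟩
  apply mat_ext
  intro x
  rw [← Matrix.mulVec_mulVec, Cfsg.Agent.Helper6.reflectionMatrix_mulVec,
    Cfsg.Agent.Helper6.reflectionMatrix_mulVec, hu, hv]
  simp only [QuadraticMap.polar_add_left, QuadraticMap.polar_sub_left, hpa, hpb]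
  funext k
  simp only [Matrix.mulVec_diagonal, Pi.sub_apply, Pi.add_apply, Pi.smul_apply, smul_eq_mul,
    Pi.single_apply]
  by_cases hka : k = a
  · subst hka
    simp [hab, Ne.symm hab]
  · by_cases hkb : k = b
    · subst hkb
      simp [hab, Ne.symm hab]
    · simp [hka, hkb]

/-- The diagonal involution negating the first `i` hyperbolic coordinate pairs is a product of
`2 i` reflections with norms `1, -1, 1, -1, …`. -/
theorem hyp_neg_list (Q : QuadraticForm F (κ → F)) (idx : κ → ℕ) (ea eb : ℕ → κ) (M : ℕ)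
    (hea : ∀ j < M, idx (ea j) = j) (heb : ∀ j < M, idx (eb j) = j)
    (hidx : ∀ j < M, ∀ k, idx k = j → k = ea j ∨ k = eb j)
    (hab : ∀ j < M, ea j ≠ eb j)
    (hQa : ∀ j < M, Q (Pi.single (ea j) 1) = 0) (hQb : ∀ j < M, Q (Pi.single (eb j) 1) = 0)
    (hpa : ∀ j < M, ∀ x, QuadraticMap.polar (⇑Q) (Pi.single (ea j) 1) x = x (eb j))
    (hpb : ∀ j < M, ∀ x, QuadraticMap.polar (⇑Q) (Pi.single (eb j) 1) x = x (ea j)) :
    ∀ i ≤ M, ∃ vs : List (κ → F), (∀ v ∈ vs, Q v ≠ 0) ∧ vs.length = 2 * i ∧
      (vs.map (fun v => Q v)).prod = (-1) ^ i ∧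
      (vs.map (fun v => Cfsg.reflectionMatrix ⇑Q v)).prod
        = Matrix.diagonal (fun k => if idx k < i then (-1 : F) else 1) := by
  intro i
  induction i with
  | zero =>
    intro _
    refine ⟨[], by simp, by simp, by simp, ?_⟩
    simp
  | succ i ih =>
    intro hi
    obtain ⟨vs, h1, h2, h3, h4⟩ := ih (by omega)
    have hiM : i < M := by omega
    obtain ⟨hu, hv, hN⟩ := refl_pair_diag Q (ea i) (eb i) (hab i hiM) (hQa i hiM) (hQb i hiM)
      (hpa i hiM) (hpb i hiM)
    refine ⟨vs ++ [Pi.single (ea i) 1 + Pi.single (eb i) 1,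
      Pi.single (ea i) 1 - Pi.single (eb i) 1], ?_, ?_, ?_, ?_⟩
    · intro v hv'
      rcases List.mem_append.1 hv' with h | h
      · exact h1 v h
      · simp only [List.mem_cons, List.mem_nil_iff, or_false] at h
        rcases h with rfl | rfl
        · rw [hu]
          exact one_ne_zero
        · rw [hv]
          exact neg_ne_zero.2 one_ne_zero
    · rw [List.length_append, h2]
      simp
      omega
    · rw [List.map_append, List.prod_append, h3]
      simp only [List.map_cons, List.map_nil, List.prod_cons, List.prod_nil, hu, hv]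
      ring
    · rw [List.map_append, List.prod_append, h4]
      simp only [List.map_cons, List.map_nil, List.prod_cons, List.prod_nil, mul_one]
      rw [hN, Matrix.diagonal_mul_diagonal]
      congr 1
      funext k
      by_cases hk : idx k < i
      · have h5 : ¬ (k = ea i ∨ k = eb i) := by
          rintro (rfl | rfl)
          · rw [hea i hiM] at hk
            omega
          · rw [heb i hiM] at hk
            omega
        have h6 : idx k < i + 1 := by omega
        rw [if_pos hk, if_neg h5, if_pos h6, mul_one]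
      · by_cases hk2 : idx k = i
        · have h5 := hidx i hiM k hk2
          rw [if_neg hk, if_pos h5, if_pos (by omega), one_mul]
        · have h5 : ¬ (k = ea i ∨ k = eb i) := by
            rintro (rfl | rfl)
            · exact hk2 (hea i hiM)
            · exact hk2 (heb i hiM)
          rw [if_neg hk, if_neg h5, if_neg (by omega), one_mul]

variable [Fintype F]

/-- The diagonal involution negating the first `i ≥ 1` hyperbolic coordinate pairs lies in the
commutator subgroup of the isometry group iff `(-1)^i` is a square (odd characteristic). -/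
theorem hyp_neg_iff (h2 : (2 : F) ≠ 0) (Q : QuadraticForm F (κ → F))
    (hQ : (QuadraticMap.polarBilin Q).Nondegenerate) (idx : κ → ℕ) (ea eb : ℕ → κ) (i : ℕ)
    (hi : 1 ≤ i)
    (hea : ∀ j < i, idx (ea j) = j) (heb : ∀ j < i, idx (eb j) = j)
    (hidx : ∀ j < i, ∀ k, idx k = j → k = ea j ∨ k = eb j)
    (hab : ∀ j < i, ea j ≠ eb j)
    (hQa : ∀ j < i, Q (Pi.single (ea j) 1) = 0) (hQb : ∀ j < i, Q (Pi.single (eb j) 1) = 0)
    (hpa : ∀ j < i, ∀ x, QuadraticMap.polar (⇑Q) (Pi.single (ea j) 1) x = x (eb j))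
    (hpb : ∀ j < i, ∀ x, QuadraticMap.polar (⇑Q) (Pi.single (eb j) 1) x = x (ea j)) :
    (∃ g : ↥(Cfsg.isometryGroup F ⇑Q), g ∈ Cfsg.Omega F ⇑Q ∧
      ((g : Matrix.GeneralLinearGroup κ F) : Matrix κ κ F)
        = Matrix.diagonal (fun k => if idx k < i then (-1 : F) else 1))
    ↔ IsSquare ((-1 : F) ^ i) := by
  obtain ⟨vs, h1, h2', h3, h4⟩ := hyp_neg_list Q idx ea eb i hea heb hidx hab hQa hQb hpa hpb
    i le_rfl
  have h0 : 0 < i := hi
  constructor
  · rintro ⟨g, hgΩ, hg⟩
    have h5 := (spinor_list h2 (ea 0) (eb 0) (hab 0 h0) Q hQ g vs h1 (hg.trans h4.symm)).1 hgΩ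
    rw [h3] at h5
    exact h5.2
  · intro hsq
    obtain ⟨g, hg⟩ := exists_iso_of_refl_list Q vs h1
    refine ⟨g, ?_, hg.trans h4⟩
    apply (spinor_list h2 (ea 0) (eb 0) (hab 0 h0) Q hQ g vs h1 hg).2
    refine ⟨⟨i, by rw [h2']; ring⟩, ?_⟩
    rw [h3]
    exact hsq

/-- `(-1)^i` is a square in a finite field of odd order `q` iff `q^i ≡ 1 (mod 4)`. -/
theorem neg_one_pow_sq_iff {q : ℕ} (hF : Fintype.card F = q) (hq : Odd q) (i : ℕ) :
    IsSquare ((-1 : F) ^ i) ↔ q ^ i % 4 = 1 := by
  have hq4 : q % 4 = 1 ∨ q % 4 = 3 := by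
    obtain ⟨k, rfl⟩ := hq
    omega
  have hsq : q ^ 2 % 4 = 1 := by
    rcases hq4 with h | h <;> simp [pow_two, Nat.mul_mod, h]
  rcases Nat.even_or_odd' i with ⟨k, rfl | rfl⟩
  · have h1 : q ^ (2 * k) % 4 = 1 := by
      rw [pow_mul, Nat.pow_mod, hsq]
      simp
    rw [h1, pow_mul]
    simp
  · have h1 : q ^ (2 * k + 1) % 4 = q % 4 := by
      rw [pow_succ, pow_mul, Nat.mul_mod, Nat.pow_mod, hsq]
      simp
    rw [h1, pow_succ, pow_mul]
    simp only [neg_one_sq, one_pow, one_mul]
    rw [FiniteField.isSquare_neg_one_iff, hF]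
    omega

end Pairs

end Cfsg.Agent.Helper5
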