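import Mathlib
import Cfsg.Agent.Helper5.SpinorList
import Cfsg.Agent.S0264

/-!
The Levi embedding `A ↦ diag(A, A⁻ᵀ)` of `GL_m` into the isometry group of the hyperbolic form
`Σ x_i y_i`, and the criterion for its image to lie in the commutator subgroup: `det A` is a
square.
-/

set_option autoImplicit false

open scoped Matrix commutatorElement

namespace Cfsg.Agent.Helper5

section

variable {F : Type*} [Field F] {m : ℕ}

/-- Hyperbolic pair relations of the standard coordinates for `Σ x_i y_i`. -/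
theorem plus_pair (𝒬 : QuadraticForm F (Fin m ⊕ Fin m → F))
    (h𝒬 : ∀ v, 𝒬 v = Cfsg.quadFormPlus m F v) (j : Fin m) :
    𝒬 (Pi.single (Sum.inl j) 1) = 0 ∧ 𝒬 (Pi.single (Sum.inr j) 1) = 0 ∧
    (∀ x, QuadraticMap.polar (⇑𝒬) (Pi.single (Sum.inl j) 1) x = x (Sum.inr j)) ∧
    (∀ x, QuadraticMap.polar (⇑𝒬) (Pi.single (Sum.inr j) 1) x = x (Sum.inl j)) := by
  refine ⟨?_, ?_, ?_, ?_⟩
  · rw [h𝒬]
    simp [Cfsg.quadFormPlus]
  · rw [h𝒬]
    simp [Cfsg.quadFormPlus]
  · intro x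
    simp only [QuadraticMap.polar, h𝒬, Cfsg.quadFormPlus]
    simp [Pi.single_apply, add_mul, Finset.sum_add_distrib]
  · intro x
    simp only [QuadraticMap.polar, h𝒬, Cfsg.quadFormPlus]
    simp [Pi.single_apply, mul_add, Finset.sum_add_distrib]

/-- `diag(A, A⁻ᵀ)` as an isometry of (a quadratic form agreeing with) `Σ x_i y_i`. -/
noncomputable def plusDiagHom (𝒬 : QuadraticForm F (Fin m ⊕ Fin m → F))
    (h𝒬 : ∀ v, 𝒬 v = Cfsg.quadFormPlus m F v) :
    Matrix.GeneralLinearGroup (Fin m) F →* ↥(Cfsg.isometryGroup F ⇑𝒬) where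
  toFun A := ⟨⟨Matrix.fromBlocks (A : Matrix (Fin m) (Fin m) F) 0 0
        ((A⁻¹ : Matrix.GeneralLinearGroup (Fin m) F) : Matrix (Fin m) (Fin m) F)ᵀ,
      Matrix.fromBlocks ((A⁻¹ : Matrix.GeneralLinearGroup (Fin m) F) : Matrix (Fin m) (Fin m) F)
        0 0 (A : Matrix (Fin m) (Fin m) F)ᵀ,
      by
        rw [Matrix.fromBlocks_multiply]
        simp only [Matrix.mul_zero, Matrix.zero_mul, add_zero, zero_add, ← Matrix.transpose_mul,
          ← Units.val_mul, mul_inv_cancel, inv_mul_cancel, Units.val_one, Matrix.transpose_one,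
          Matrix.fromBlocks_one],
      by
        rw [Matrix.fromBlocks_multiply]
        simp only [Matrix.mul_zero, Matrix.zero_mul, add_zero, zero_add, ← Matrix.transpose_mul,
          ← Units.val_mul, mul_inv_cancel, inv_mul_cancel, Units.val_one, Matrix.transpose_one,
          Matrix.fromBlocks_one]⟩,
    by
      rw [Cfsg.Agent.Helper6.isometry_mem_iff]
      intro u
      rw [h𝒬, h𝒬]
      change ∑ i : Fin m, (Matrix.fromBlocks (A : Matrix (Fin m) (Fin m) F) 0 0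
        ((A⁻¹ : Matrix.GeneralLinearGroup (Fin m) F) : Matrix (Fin m) (Fin m) F)ᵀ *ᵥ u) (Sum.inl i)
        * (Matrix.fromBlocks (A : Matrix (Fin m) (Fin m) F) 0 0
        ((A⁻¹ : Matrix.GeneralLinearGroup (Fin m) F) : Matrix (Fin m) (Fin m) F)ᵀ *ᵥ u) (Sum.inr i)
        = ∑ i : Fin m, u (Sum.inl i) * u (Sum.inr i)
      rw [Matrix.fromBlocks_mulVec]
      simp only [Sum.elim_inl, Sum.elim_inr, Matrix.zero_mulVec, add_zero, zero_add]
      change ((A : Matrix (Fin m) (Fin m) F) *ᵥ (u ∘ Sum.inl)) ⬝ᵥ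
        (((A⁻¹ : Matrix.GeneralLinearGroup (Fin m) F) : Matrix (Fin m) (Fin m) F)ᵀ *ᵥ (u ∘ Sum.inr))
        = (u ∘ Sum.inl) ⬝ᵥ (u ∘ Sum.inr)
      rw [Matrix.dotProduct_mulVec, Matrix.vecMul_transpose, Matrix.mulVec_mulVec, ← Units.val_mul,
        inv_mul_cancel, Units.val_one, Matrix.one_mulVec]⟩
  map_one' := by
    apply Subtype.ext
    apply Units.ext
    change Matrix.fromBlocks ((1 : Matrix.GeneralLinearGroup (Fin m) F) : Matrix (Fin m) (Fin m) F)
      0 0 (((1 : Matrix.GeneralLinearGroup (Fin m) F)⁻¹ : Matrix.GeneralLinearGroup (Fin m) F) :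
        Matrix (Fin m) (Fin m) F)ᵀ = 1
    rw [inv_one, Units.val_one, Matrix.transpose_one, Matrix.fromBlocks_one]
  map_mul' A B := by
    apply Subtype.ext
    apply Units.ext
    change Matrix.fromBlocks ((A * B : Matrix.GeneralLinearGroup (Fin m) F) :
        Matrix (Fin m) (Fin m) F) 0 0
      (((A * B)⁻¹ : Matrix.GeneralLinearGroup (Fin m) F) : Matrix (Fin m) (Fin m) F)ᵀ
      = Matrix.fromBlocks (A : Matrix (Fin m) (Fin m) F) 0 0
        ((A⁻¹ : Matrix.GeneralLinearGroup (Fin m) F) : Matrix (Fin m) (Fin m) F)ᵀ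
        * Matrix.fromBlocks (B : Matrix (Fin m) (Fin m) F) 0 0
        ((B⁻¹ : Matrix.GeneralLinearGroup (Fin m) F) : Matrix (Fin m) (Fin m) F)ᵀ
    rw [Matrix.fromBlocks_multiply, mul_inv_rev, Units.val_mul, Units.val_mul,
      Matrix.transpose_mul]
    simp only [Matrix.mul_zero, Matrix.zero_mul, add_zero, zero_add]

theorem plusDiagHom_coe (𝒬 : QuadraticForm F (Fin m ⊕ Fin m → F))
    (h𝒬 : ∀ v, 𝒬 v = Cfsg.quadFormPlus m F v) (A : Matrix.GeneralLinearGroup (Fin m) F) :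
    ((plusDiagHom 𝒬 h𝒬 A : Matrix.GeneralLinearGroup (Fin m ⊕ Fin m) F) :
      Matrix (Fin m ⊕ Fin m) (Fin m ⊕ Fin m) F)
      = Matrix.fromBlocks (A : Matrix (Fin m) (Fin m) F) 0 0
        ((A⁻¹ : Matrix.GeneralLinearGroup (Fin m) F) : Matrix (Fin m) (Fin m) F)ᵀ := rfl

/-- The isometry swapping the two standard maximal totally singular subspaces. -/
noncomputable def plusSwap (𝒬 : QuadraticForm F (Fin m ⊕ Fin m → F))
    (h𝒬 : ∀ v, 𝒬 v = Cfsg.quadFormPlus m F v) : ↥(Cfsg.isometryGroup F ⇑𝒬) :=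
  ⟨⟨Matrix.fromBlocks 0 1 1 0, Matrix.fromBlocks 0 1 1 0,
      by
        rw [Matrix.fromBlocks_multiply]
        simp only [Matrix.mul_zero, Matrix.zero_mul, add_zero, zero_add, Matrix.mul_one,
          Matrix.fromBlocks_one],
      by
        rw [Matrix.fromBlocks_multiply]
        simp only [Matrix.mul_zero, Matrix.zero_mul, add_zero, zero_add, Matrix.mul_one,
          Matrix.fromBlocks_one]⟩,
    by
      rw [Cfsg.Agent.Helper6.isometry_mem_iff]
      intro u
      rw [h𝒬, h𝒬]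
      change ∑ i : Fin m, (Matrix.fromBlocks (0 : Matrix (Fin m) (Fin m) F) 1 1 0 *ᵥ u) (Sum.inl i)
        * (Matrix.fromBlocks (0 : Matrix (Fin m) (Fin m) F) 1 1 0 *ᵥ u) (Sum.inr i)
        = ∑ i : Fin m, u (Sum.inl i) * u (Sum.inr i)
      rw [Matrix.fromBlocks_mulVec]
      simp only [Sum.elim_inl, Sum.elim_inr, Matrix.zero_mulVec, Matrix.one_mulVec, add_zero,
        zero_add, Function.comp_apply]
      exact Finset.sum_congr rfl (fun i _ => mul_comm _ _)⟩

theorem plusSwap_coe (𝒬 : QuadraticForm F (Fin m ⊕ Fin m → F))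
    (h𝒬 : ∀ v, 𝒬 v = Cfsg.quadFormPlus m F v) :
    ((plusSwap 𝒬 h𝒬 : Matrix.GeneralLinearGroup (Fin m ⊕ Fin m) F) :
      Matrix (Fin m ⊕ Fin m) (Fin m ⊕ Fin m) F) = Matrix.fromBlocks 0 1 1 0 := rfl

/-- For a symmetric `B`, `diag(B, B⁻ᵀ)²` is a commutator of isometries. -/
theorem plusDiag_sq_mem (𝒬 : QuadraticForm F (Fin m ⊕ Fin m → F))
    (h𝒬 : ∀ v, 𝒬 v = Cfsg.quadFormPlus m F v) (B : Matrix.GeneralLinearGroup (Fin m) F)
    (hB : (B : Matrix (Fin m) (Fin m) F)ᵀ = B) :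
    plusDiagHom 𝒬 h𝒬 B * plusDiagHom 𝒬 h𝒬 B ∈ commutator ↥(Cfsg.isometryGroup F ⇑𝒬) := by
  have hB' : ((B⁻¹ : Matrix.GeneralLinearGroup (Fin m) F) : Matrix (Fin m) (Fin m) F)ᵀ
      = ((B⁻¹ : Matrix.GeneralLinearGroup (Fin m) F) : Matrix (Fin m) (Fin m) F) := by
    rw [Matrix.coe_units_inv, Matrix.transpose_nonsing_inv, hB]
  have hW : plusSwap 𝒬 h𝒬 * plusDiagHom 𝒬 h𝒬 B⁻¹ = plusDiagHom 𝒬 h𝒬 B * plusSwap 𝒬 h𝒬 := by
    apply Subtype.ext
    apply Units.ext
    rw [Subgroup.coe_mul, Subgroup.coe_mul, Units.val_mul, Units.val_mul, plusSwap_coe,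
      plusDiagHom_coe, plusDiagHom_coe, inv_inv, hB, hB', Matrix.fromBlocks_multiply,
      Matrix.fromBlocks_multiply]
    simp only [Matrix.mul_zero, Matrix.zero_mul, add_zero, zero_add, Matrix.mul_one,
      Matrix.one_mul]
  have h3 : plusDiagHom 𝒬 h𝒬 B * plusDiagHom 𝒬 h𝒬 B
      = ⁅plusDiagHom 𝒬 h𝒬 B, plusSwap 𝒬 h𝒬⁆ := by
    rw [commutatorElement_def, mul_assoc (plusDiagHom 𝒬 h𝒬 B) (plusSwap 𝒬 h𝒬), ← map_inv, hW]
    group
  rw [h3]
  exact Subgroup.commutator_mem_commutator (Subgroup.mem_top _) (Subgroup.mem_top _)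

/-- `diag(c, 1, …, 1)` in `GL_m`. -/
noncomputable def dGL (i0 : Fin m) (c : Fˣ) : Matrix.GeneralLinearGroup (Fin m) F :=
  ⟨Matrix.diagonal (Function.update 1 i0 (c : F)),
    Matrix.diagonal (Function.update 1 i0 ((c⁻¹ : Fˣ) : F)),
    by
      rw [Matrix.diagonal_mul_diagonal, ← Matrix.diagonal_one]
      congr 1
      funext k
      by_cases hk : k = i0 <;> simp [Function.update_apply, hk],
    by
      rw [Matrix.diagonal_mul_diagonal, ← Matrix.diagonal_one]
      congr 1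
      funext k
      by_cases hk : k = i0 <;> simp [Function.update_apply, hk]⟩

theorem dGL_coe (i0 : Fin m) (c : Fˣ) :
    ((dGL i0 c : Matrix.GeneralLinearGroup (Fin m) F) : Matrix (Fin m) (Fin m) F)
      = Matrix.diagonal (Function.update 1 i0 (c : F)) := rfl

theorem dGL_inv_coe (i0 : Fin m) (c : Fˣ) :
    (((dGL i0 c)⁻¹ : Matrix.GeneralLinearGroup (Fin m) F) : Matrix (Fin m) (Fin m) F)
      = Matrix.diagonal (Function.update 1 i0 ((c⁻¹ : Fˣ) : F)) := rfl

theorem dGL_det (i0 : Fin m) (c : Fˣ) :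
    Matrix.GeneralLinearGroup.det (dGL i0 c) = c := by
  apply Units.ext
  rw [Matrix.GeneralLinearGroup.val_det_apply, dGL_coe, Matrix.det_diagonal,
    Finset.prod_update_of_mem (Finset.mem_univ i0)]
  simp

/-- The two reflections attached to a hyperbolic coordinate pair and a scalar `c` multiply to
the scaling `diag(c, c⁻¹)` of the two coordinates. -/
theorem refl_pair_scale {κ : Type} [Fintype κ] [DecidableEq κ] (Q : QuadraticForm F (κ → F))
    (a b : κ) (hab : a ≠ b)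
    (hQa : Q (Pi.single a 1) = 0) (hQb : Q (Pi.single b 1) = 0)
    (hpa : ∀ x, QuadraticMap.polar (⇑Q) (Pi.single a 1) x = x b)
    (hpb : ∀ x, QuadraticMap.polar (⇑Q) (Pi.single b 1) x = x a) (c : F) (hc : c ≠ 0) :
    Q (Pi.single a 1 - Pi.single b 1) = -1 ∧ Q (Pi.single a 1 - c • Pi.single b 1) = -c ∧
    Cfsg.reflectionMatrix ⇑Q (Pi.single a 1 - Pi.single b 1)
      * Cfsg.reflectionMatrix ⇑Q (Pi.single a 1 - c • Pi.single b 1)
      = Matrix.diagonal (fun k => if k = a then c else if k = b then c⁻¹ else 1) := by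
  have hu : Q (Pi.single a 1 - Pi.single b 1) = -1 := by
    rw [sub_eq_add_neg, QuadraticMap.map_add (⇑Q) (Pi.single a 1) (-Pi.single b 1),
      QuadraticMap.map_neg, hQa, hQb, hpa, Pi.neg_apply, Pi.single_eq_same]
    ring
  have hv : Q (Pi.single a 1 - c • Pi.single b 1) = -c := by
    rw [sub_eq_add_neg, ← neg_smul,
      QuadraticMap.map_add (⇑Q) (Pi.single a 1) ((-c) • Pi.single b 1),
      QuadraticMap.map_smul, hQa, hQb, hpa, Pi.smul_apply, Pi.single_eq_same]
    simp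
  refine ⟨hu, hv, ?_⟩
  apply mat_ext
  intro x
  rw [← Matrix.mulVec_mulVec, Cfsg.Agent.Helper6.reflectionMatrix_mulVec,
    Cfsg.Agent.Helper6.reflectionMatrix_mulVec, hu, hv]
  simp only [QuadraticMap.polar_add_left, QuadraticMap.polar_sub_left,
    QuadraticMap.polar_smul_left, hpa, hpb]
  funext k
  simp only [Matrix.mulVec_diagonal, Pi.sub_apply, Pi.add_apply, Pi.smul_apply, smul_eq_mul,
    Pi.single_apply]
  by_cases hka : k = a
  · subst hka
    simp [hab, Ne.symm hab]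
    field_simp
    ring
  · by_cases hkb : k = b
    · subst hkb
      simp [hab, Ne.symm hab]
      field_simp
      ring
    · simp [hka, hkb]

variable [Fintype F]

/-- `diag(A, A⁻ᵀ)` lies in the commutator subgroup of the isometry group of `Σ x_i y_i` iff
`det A` is a square. -/
theorem plusDiag_mem_iff (hm : 1 ≤ m) (h : Fintype.card F ≠ 2 ∨ m ≠ 2)
    (𝒬 : QuadraticForm F (Fin m ⊕ Fin m → F)) (h𝒬 : ∀ v, 𝒬 v = Cfsg.quadFormPlus m F v)
    (hnd : (QuadraticMap.polarBilin 𝒬).Nondegenerate) (A : Matrix.GeneralLinearGroup (Fin m) F) :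
    plusDiagHom 𝒬 h𝒬 A ∈ commutator ↥(Cfsg.isometryGroup F ⇑𝒬) ↔
      IsSquare (A : Matrix (Fin m) (Fin m) F).det := by
  classical
  obtain ⟨i0, hi0⟩ : ∃ i0 : Fin m, i0 = ⟨0, hm⟩ := ⟨_, rfl⟩
  obtain ⟨c, hcdef⟩ : ∃ c : Fˣ, c = Matrix.GeneralLinearGroup.det A := ⟨_, rfl⟩
  have hc : (c : F) = (A : Matrix (Fin m) (Fin m) F).det := by
    rw [hcdef]
    rfl
  have hcomm : commutator (Matrix.GeneralLinearGroup (Fin m) F)
      = (Matrix.GeneralLinearGroup.det : Matrix.GeneralLinearGroup (Fin m) F →* Fˣ).ker := by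
    apply Cfsg.Agent.S0264.result
    intro hm2
    have hF2 : Fintype.card F ≠ 2 := by
      rcases h with h | h
      · exact h
      · exact absurd hm2 h
    by_contra hcon
    push Not at hcon
    have hsub : (Finset.univ : Finset F) ⊆ {0, 1} := by
      intro a _
      by_cases ha : a = 0
      · simp [ha]
      · simp [hcon a ha]
    have h1 := Finset.card_le_card hsub
    have h2 : ({0, 1} : Finset F).card = 2 := Finset.card_pair zero_ne_one
    rw [Finset.card_univ, h2] at h1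
    have h3 := Fintype.one_lt_card (α := F)
    omega
  have hBmem : A * (dGL i0 c)⁻¹ ∈ commutator (Matrix.GeneralLinearGroup (Fin m) F) := by
    rw [hcomm, MonoidHom.mem_ker, map_mul, map_inv, dGL_det, ← hcdef]
    exact mul_inv_cancel c
  have hφB : plusDiagHom 𝒬 h𝒬 (A * (dGL i0 c)⁻¹) ∈ commutator ↥(Cfsg.isometryGroup F ⇑𝒬) := by
    have h1 := Abelianization.commutator_subset_ker
      (Abelianization.of.comp (plusDiagHom 𝒬 h𝒬)) hBmem
    rw [MonoidHom.mem_ker, MonoidHom.comp_apply] at h1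
    rw [← Abelianization.ker_of]
    exact h1
  have hsplit : plusDiagHom 𝒬 h𝒬 A
      = plusDiagHom 𝒬 h𝒬 (A * (dGL i0 c)⁻¹) * plusDiagHom 𝒬 h𝒬 (dGL i0 c) := by
    rw [← map_mul, inv_mul_cancel_right]
  rw [hsplit, Subgroup.mul_mem_cancel_left _ hφB, ← hc]
  constructor
  · intro hmem
    by_cases h2 : (2 : F) = 0
    · have hch : ringChar F = 2 :=
        CharP.ringChar_of_prime_eq_zero Nat.prime_two (by exact_mod_cast h2)
      exact FiniteField.isSquare_of_char_two hch _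
    · obtain ⟨hQa, hQb, hpa, hpb⟩ := plus_pair 𝒬 h𝒬 i0
      have hab : (Sum.inl i0 : Fin m ⊕ Fin m) ≠ Sum.inr i0 := by simp
      obtain ⟨hu, hv, hN⟩ := refl_pair_scale 𝒬 (Sum.inl i0) (Sum.inr i0) hab hQa hQb hpa hpb
        (c : F) c.ne_zero
      have hmat : ((plusDiagHom 𝒬 h𝒬 (dGL i0 c) : Matrix.GeneralLinearGroup (Fin m ⊕ Fin m) F) :
          Matrix (Fin m ⊕ Fin m) (Fin m ⊕ Fin m) F)
          = ([Pi.single (Sum.inl i0) 1 - Pi.single (Sum.inr i0) 1,
              Pi.single (Sum.inl i0) 1 - (c : F) • Pi.single (Sum.inr i0) 1].map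
                (fun v => Cfsg.reflectionMatrix ⇑𝒬 v)).prod := by
        simp only [List.map_cons, List.map_nil, List.prod_cons, List.prod_nil, mul_one]
        rw [hN, plusDiagHom_coe, dGL_coe, dGL_inv_coe, Matrix.diagonal_transpose,
          Matrix.fromBlocks_diagonal]
        congr 1
        funext k
        rcases k with k | k <;> by_cases hk : k = i0 <;> simp [Function.update_apply, hk]
      have hvs : ∀ v ∈ [Pi.single (Sum.inl i0) 1 - Pi.single (Sum.inr i0) 1,
          Pi.single (Sum.inl i0) 1 - (c : F) • Pi.single (Sum.inr i0) 1], 𝒬 v ≠ 0 := by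
        intro v hv'
        simp only [List.mem_cons, List.mem_nil_iff, or_false] at hv'
        rcases hv' with rfl | rfl
        · rw [hu]
          exact neg_ne_zero.2 one_ne_zero
        · rw [hv]
          exact neg_ne_zero.2 c.ne_zero
      have h5 := ((spinor_list h2 (Sum.inl i0) (Sum.inr i0) hab 𝒬 hnd _ _ hvs hmat).1 hmem).2
      simp only [List.map_cons, List.map_nil, List.prod_cons, List.prod_nil, mul_one, hu, hv]
        at h5
      simpa using h5
  · rintro ⟨r, hr⟩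
    have hr0 : r ≠ 0 := by
      rintro rfl
      exact c.ne_zero (by rw [hr, mul_zero])
    have h6 : dGL i0 c = dGL i0 (Units.mk0 r hr0) * dGL i0 (Units.mk0 r hr0) := by
      apply Units.ext
      rw [Units.val_mul, dGL_coe, dGL_coe, Matrix.diagonal_mul_diagonal, hr]
      congr 1
      funext k
      by_cases hk : k = i0 <;> simp [Function.update_apply, hk]
    rw [h6, map_mul]
    exact plusDiag_sq_mem 𝒬 h𝒬 _ (Matrix.diagonal_transpose _)

end

end Cfsg.Agent.Helper5
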