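import Mathlib
import Cfsg.Agent.Helper5.MaxSing
import Cfsg.Agent.Helper5.PlusDiag

/-!
The Dickson-type character of the isometry group of the hyperbolic form `Σ x_i y_i`:
`g ↦ (-1)^(m - dim (E ∩ gE))` for the standard maximal totally singular subspace `E = {y = 0}`
(any characteristic). It is `-1` on reflections, equals the determinant in odd characteristic,
and the swap of the two standard maximal totally singular subspaces is a commutator when `m` is
even.
-/

set_option autoImplicit false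

open scoped Matrix commutatorElement

namespace Cfsg.Agent.Helper5

section

variable {F : Type*} [Field F] {m : ℕ}

/-- The standard maximal totally singular subspace `{y = 0}`. -/
def plusE (F : Type*) [Field F] (m : ℕ) : Submodule F (Fin m ⊕ Fin m → F) :=
  LinearMap.ker (LinearMap.funLeft F F (Sum.inr : Fin m → Fin m ⊕ Fin m))

theorem mem_plusE (x : Fin m ⊕ Fin m → F) : x ∈ plusE F m ↔ ∀ i, x (Sum.inr i) = 0 := by
  rw [plusE, LinearMap.mem_ker]
  constructor
  · intro h i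
    exact congrFun h i
  · intro h
    funext i
    exact h i

theorem finrank_plusV : Module.finrank F (Fin m ⊕ Fin m → F) = 2 * m := by
  rw [Module.finrank_fintype_fun_eq_card, Fintype.card_sum, Fintype.card_fin]
  ring

theorem plusE_mts (𝒬 : QuadraticForm F (Fin m ⊕ Fin m → F))
    (h𝒬 : ∀ v, 𝒬 v = Cfsg.quadFormPlus m F v) : IsMTS 𝒬 m (plusE F m) := by
  refine ⟨?_, ?_⟩
  · have h1 := LinearMap.finrank_range_add_finrank_ker
      (LinearMap.funLeft F F (Sum.inr : Fin m → Fin m ⊕ Fin m))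
    have h2 : LinearMap.range (LinearMap.funLeft F F (Sum.inr : Fin m → Fin m ⊕ Fin m)) = ⊤ := by
      rw [LinearMap.range_eq_top]
      intro w
      refine ⟨Sum.elim 0 w, ?_⟩
      funext i
      rfl
    rw [h2, finrank_top, Module.finrank_fintype_fun_eq_card, Fintype.card_fin, finrank_plusV] at h1
    change Module.finrank F ↥(LinearMap.ker
      (LinearMap.funLeft F F (Sum.inr : Fin m → Fin m ⊕ Fin m))) = m
    omega
  · intro u hu
    rw [h𝒬, Cfsg.quadFormPlus]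
    apply Finset.sum_eq_zero
    intro i _
    rw [(mem_plusE u).1 hu i, mul_zero]

theorem mulVecLin_inj {κ : Type} [Fintype κ] [DecidableEq κ] (g : Matrix.GeneralLinearGroup κ F) :
    Function.Injective (Matrix.mulVecLin (g : Matrix κ κ F)) := by
  intro x y h
  have h1 := congrArg (fun z => ((g⁻¹ : Matrix.GeneralLinearGroup κ F) : Matrix κ κ F) *ᵥ z) h
  simp only [Matrix.mulVecLin_apply, Matrix.mulVec_mulVec, ← Units.val_mul, inv_mul_cancel,
    Units.val_one, Matrix.one_mulVec] at h1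
  exact h1

theorem mulVecLin_isom {κ : Type} [Fintype κ] [DecidableEq κ] (Qf : (κ → F) → F)
    (g : ↥(Cfsg.isometryGroup F Qf)) (v : κ → F) :
    Qf (Matrix.mulVecLin ((g : Matrix.GeneralLinearGroup κ F) : Matrix κ κ F) v) = Qf v := by
  rw [Matrix.mulVecLin_apply]
  exact (Cfsg.Agent.Helper6.isometry_mem_iff Qf g.1).1 g.2 v

theorem neg_one_units_pow_congr (x y : ℕ) (h : x % 2 = y % 2) : (-1 : ℤˣ) ^ x = (-1) ^ y := by
  rcases Nat.even_or_odd x with hx | hx
  · have hy : Even y := by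
      rw [Nat.even_iff] at hx ⊢
      omega
    rw [hx.neg_one_pow, hy.neg_one_pow]
  · have hy : Odd y := by
      rw [Nat.odd_iff] at hx ⊢
      omega
    rw [hx.neg_one_pow, hy.neg_one_pow]

/-- The Dickson-type character. -/
noncomputable def plusD (𝒬 : QuadraticForm F (Fin m ⊕ Fin m → F))
    (h𝒬 : ∀ v, 𝒬 v = Cfsg.quadFormPlus m F v)
    (hnd : (QuadraticMap.polarBilin 𝒬).Nondegenerate) : ↥(Cfsg.isometryGroup F ⇑𝒬) →* ℤˣ where
  toFun g := (-1) ^ (m - Module.finrank F ↥(plusE F m ⊓ (plusE F m).map (Matrix.mulVecLin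
    ((g : Matrix.GeneralLinearGroup (Fin m ⊕ Fin m) F) : Matrix (Fin m ⊕ Fin m) (Fin m ⊕ Fin m) F))))
  map_one' := by
    have h1 : (plusE F m).map (Matrix.mulVecLin
        (((1 : ↥(Cfsg.isometryGroup F ⇑𝒬)) : Matrix.GeneralLinearGroup (Fin m ⊕ Fin m) F) :
          Matrix (Fin m ⊕ Fin m) (Fin m ⊕ Fin m) F)) = plusE F m := by
      have h2 : (((1 : ↥(Cfsg.isometryGroup F ⇑𝒬)) : Matrix.GeneralLinearGroup (Fin m ⊕ Fin m) F) :
          Matrix (Fin m ⊕ Fin m) (Fin m ⊕ Fin m) F) = 1 := rfl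
      rw [h2, Matrix.mulVecLin_one, Submodule.map_id]
    rw [h1, inf_idem, (plusE_mts 𝒬 h𝒬).1, Nat.sub_self, pow_zero]
  map_mul' g h := by
    have hc := mts_cocycle 𝒬 finrank_plusV hnd (plusE F m) (plusE_mts 𝒬 h𝒬)
      (Matrix.mulVecLin ((g : Matrix.GeneralLinearGroup (Fin m ⊕ Fin m) F) :
        Matrix (Fin m ⊕ Fin m) (Fin m ⊕ Fin m) F))
      (Matrix.mulVecLin ((h : Matrix.GeneralLinearGroup (Fin m ⊕ Fin m) F) :
        Matrix (Fin m ⊕ Fin m) (Fin m ⊕ Fin m) F))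
      (mulVecLin_inj _) (mulVecLin_isom ⇑𝒬 g) (mulVecLin_inj _) (mulVecLin_isom ⇑𝒬 h)
    have e : Matrix.mulVecLin (((g * h : ↥(Cfsg.isometryGroup F ⇑𝒬)) :
        Matrix.GeneralLinearGroup (Fin m ⊕ Fin m) F) : Matrix (Fin m ⊕ Fin m) (Fin m ⊕ Fin m) F)
        = Matrix.mulVecLin ((g : Matrix.GeneralLinearGroup (Fin m ⊕ Fin m) F) :
          Matrix (Fin m ⊕ Fin m) (Fin m ⊕ Fin m) F)
          ∘ₗ Matrix.mulVecLin ((h : Matrix.GeneralLinearGroup (Fin m ⊕ Fin m) F) :
          Matrix (Fin m ⊕ Fin m) (Fin m ⊕ Fin m) F) := by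
      rw [Subgroup.coe_mul, Units.val_mul, Matrix.mulVecLin_mul]
    rw [e]
    have b1 := Submodule.finrank_mono (inf_le_left : plusE F m ⊓ (plusE F m).map
      (Matrix.mulVecLin ((g : Matrix.GeneralLinearGroup (Fin m ⊕ Fin m) F) :
        Matrix (Fin m ⊕ Fin m) (Fin m ⊕ Fin m) F)) ≤ plusE F m)
    have b2 := Submodule.finrank_mono (inf_le_left : plusE F m ⊓ (plusE F m).map
      (Matrix.mulVecLin ((h : Matrix.GeneralLinearGroup (Fin m ⊕ Fin m) F) :
        Matrix (Fin m ⊕ Fin m) (Fin m ⊕ Fin m) F)) ≤ plusE F m)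
    have b3 := Submodule.finrank_mono (inf_le_left : plusE F m ⊓ (plusE F m).map
      (Matrix.mulVecLin ((g : Matrix.GeneralLinearGroup (Fin m ⊕ Fin m) F) :
        Matrix (Fin m ⊕ Fin m) (Fin m ⊕ Fin m) F)
        ∘ₗ Matrix.mulVecLin ((h : Matrix.GeneralLinearGroup (Fin m ⊕ Fin m) F) :
        Matrix (Fin m ⊕ Fin m) (Fin m ⊕ Fin m) F)) ≤ plusE F m)
    rw [(plusE_mts 𝒬 h𝒬).1] at b1 b2 b3
    rw [← pow_add]
    apply neg_one_units_pow_congr
    omega

theorem plusD_apply (𝒬 : QuadraticForm F (Fin m ⊕ Fin m → F))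
    (h𝒬 : ∀ v, 𝒬 v = Cfsg.quadFormPlus m F v)
    (hnd : (QuadraticMap.polarBilin 𝒬).Nondegenerate) (g : ↥(Cfsg.isometryGroup F ⇑𝒬)) :
    plusD 𝒬 h𝒬 hnd g = (-1) ^ (m - Module.finrank F ↥(plusE F m ⊓ (plusE F m).map
      (Matrix.mulVecLin ((g : Matrix.GeneralLinearGroup (Fin m ⊕ Fin m) F) :
        Matrix (Fin m ⊕ Fin m) (Fin m ⊕ Fin m) F)))) := rfl

theorem plusD_comm (𝒬 : QuadraticForm F (Fin m ⊕ Fin m → F))
    (h𝒬 : ∀ v, 𝒬 v = Cfsg.quadFormPlus m F v)
    (hnd : (QuadraticMap.polarBilin 𝒬).Nondegenerate) (g : ↥(Cfsg.isometryGroup F ⇑𝒬))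
    (hg : g ∈ commutator ↥(Cfsg.isometryGroup F ⇑𝒬)) : plusD 𝒬 h𝒬 hnd g = 1 :=
  MonoidHom.mem_ker.1 (Abelianization.commutator_subset_ker (plusD 𝒬 h𝒬 hnd) hg)

theorem plusD_refl (𝒬 : QuadraticForm F (Fin m ⊕ Fin m → F))
    (h𝒬 : ∀ v, 𝒬 v = Cfsg.quadFormPlus m F v)
    (hnd : (QuadraticMap.polarBilin 𝒬).Nondegenerate) (g : ↥(Cfsg.isometryGroup F ⇑𝒬))
    (w : Fin m ⊕ Fin m → F) (hw : 𝒬 w ≠ 0) (hg : ActsRefl 𝒬 g w) : plusD 𝒬 h𝒬 hnd g = -1 := by
  have h5 := mts_refl 𝒬 finrank_plusV hnd (plusE F m) (plusE_mts 𝒬 h𝒬) w hw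
    (Matrix.mulVecLin ((g : Matrix.GeneralLinearGroup (Fin m ⊕ Fin m) F) :
      Matrix (Fin m ⊕ Fin m) (Fin m ⊕ Fin m) F))
    (fun x => by
      rw [Matrix.mulVecLin_apply, ← isoActF_apply]
      exact hg x)
  rw [plusD_apply]
  have h6 : m - Module.finrank F ↥(plusE F m ⊓ (plusE F m).map
      (Matrix.mulVecLin ((g : Matrix.GeneralLinearGroup (Fin m ⊕ Fin m) F) :
        Matrix (Fin m ⊕ Fin m) (Fin m ⊕ Fin m) F))) = 1 := by omega
  rw [h6, pow_one]

/-- In odd characteristic the Dickson-type character is the determinant. -/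
theorem plusD_det [Fintype F] (h2 : (2 : F) ≠ 0) (𝒬 : QuadraticForm F (Fin m ⊕ Fin m → F))
    (h𝒬 : ∀ v, 𝒬 v = Cfsg.quadFormPlus m F v)
    (hnd : (QuadraticMap.polarBilin 𝒬).Nondegenerate) (g : ↥(Cfsg.isometryGroup F ⇑𝒬)) :
    (((g : Matrix.GeneralLinearGroup (Fin m ⊕ Fin m) F) :
        Matrix (Fin m ⊕ Fin m) (Fin m ⊕ Fin m) F).det = 1 ∧ plusD 𝒬 h𝒬 hnd g = 1) ∨
    (((g : Matrix.GeneralLinearGroup (Fin m ⊕ Fin m) F) :
        Matrix (Fin m ⊕ Fin m) (Fin m ⊕ Fin m) F).det = -1 ∧ plusD 𝒬 h𝒬 hnd g = -1) := by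
  refine refl_induction h2 𝒬 hnd (fun g => (((g : Matrix.GeneralLinearGroup (Fin m ⊕ Fin m) F) :
        Matrix (Fin m ⊕ Fin m) (Fin m ⊕ Fin m) F).det = 1 ∧ plusD 𝒬 h𝒬 hnd g = 1) ∨
    (((g : Matrix.GeneralLinearGroup (Fin m ⊕ Fin m) F) :
        Matrix (Fin m ⊕ Fin m) (Fin m ⊕ Fin m) F).det = -1 ∧ plusD 𝒬 h𝒬 hnd g = -1)) ?_ ?_ ?_ g
  · left
    refine ⟨?_, map_one _⟩
    change (1 : Matrix (Fin m ⊕ Fin m) (Fin m ⊕ Fin m) F).det = 1
    exact Matrix.det_one
  · intro a b ha hb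
    have hdet : ((a * b : ↥(Cfsg.isometryGroup F ⇑𝒬)) : Matrix.GeneralLinearGroup (Fin m ⊕ Fin m) F).1.det
        = (a : Matrix.GeneralLinearGroup (Fin m ⊕ Fin m) F).1.det
          * (b : Matrix.GeneralLinearGroup (Fin m ⊕ Fin m) F).1.det := by
      rw [Subgroup.coe_mul, Units.val_mul, Matrix.det_mul]
    rcases ha with ⟨ha1, ha2⟩ | ⟨ha1, ha2⟩ <;> rcases hb with ⟨hb1, hb2⟩ | ⟨hb1, hb2⟩
    · left
      exact ⟨by rw [hdet, ha1, hb1, mul_one], by rw [map_mul, ha2, hb2, mul_one]⟩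
    · right
      exact ⟨by rw [hdet, ha1, hb1, one_mul], by rw [map_mul, ha2, hb2, one_mul]⟩
    · right
      exact ⟨by rw [hdet, ha1, hb1, mul_one], by rw [map_mul, ha2, hb2, mul_one]⟩
    · left
      exact ⟨by rw [hdet, ha1, hb1]; ring, by rw [map_mul, ha2, hb2]; rfl⟩
  · intro g w hw hg
    right
    have hgr : g = reflEl 𝒬 w hw := actsRefl_unique 𝒬 g _ w hg (actsRefl_reflEl 𝒬 w hw)
    refine ⟨?_, plusD_refl 𝒬 h𝒬 hnd g w hw hg⟩
    rw [hgr]
    exact Cfsg.Agent.Helper6.reflectionMatrix_det 𝒬 w hw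

/-- The isometry swapping `e_i` and `f_i` for the indices `i` in the support of a `0/1`-valued
vector `d`. -/
noncomputable def halfSwap (𝒬 : QuadraticForm F (Fin m ⊕ Fin m → F))
    (h𝒬 : ∀ v, 𝒬 v = Cfsg.quadFormPlus m F v) (d : Fin m → F) (hd : ∀ i, d i * d i = d i) :
    ↥(Cfsg.isometryGroup F ⇑𝒬) :=
  have hmul : Matrix.fromBlocks (Matrix.diagonal (fun i => 1 - d i)) (Matrix.diagonal d)
      (Matrix.diagonal d) (Matrix.diagonal (fun i => 1 - d i))
      * Matrix.fromBlocks (Matrix.diagonal (fun i => 1 - d i)) (Matrix.diagonal d)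
      (Matrix.diagonal d) (Matrix.diagonal (fun i => 1 - d i)) = 1 := by
    have e1 : (fun i => (1 - d i) * (1 - d i) + d i * d i) = fun _ => (1 : F) :=
      funext fun i => by linear_combination 2 * hd i
    have e2 : (fun i => (1 - d i) * d i + d i * (1 - d i)) = fun _ => (0 : F) :=
      funext fun i => by linear_combination (-2) * hd i
    have e3 : (fun i => d i * (1 - d i) + (1 - d i) * d i) = fun _ => (0 : F) :=
      funext fun i => by linear_combination (-2) * hd i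
    have e4 : (fun i => d i * d i + (1 - d i) * (1 - d i)) = fun _ => (1 : F) :=
      funext fun i => by linear_combination 2 * hd i
    rw [Matrix.fromBlocks_multiply]
    simp only [Matrix.diagonal_mul_diagonal, Matrix.diagonal_add, e1, e2, e3, e4]
    rw [Matrix.diagonal_one, Matrix.diagonal_zero, Matrix.fromBlocks_one]
  ⟨⟨Matrix.fromBlocks (Matrix.diagonal (fun i => 1 - d i)) (Matrix.diagonal d)
      (Matrix.diagonal d) (Matrix.diagonal (fun i => 1 - d i)),
    Matrix.fromBlocks (Matrix.diagonal (fun i => 1 - d i)) (Matrix.diagonal d)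
      (Matrix.diagonal d) (Matrix.diagonal (fun i => 1 - d i)), hmul, hmul⟩,
    by
      rw [Cfsg.Agent.Helper6.isometry_mem_iff]
      intro u
      rw [h𝒬, h𝒬]
      change ∑ i : Fin m, (Matrix.fromBlocks (Matrix.diagonal (fun i => 1 - d i))
        (Matrix.diagonal d) (Matrix.diagonal d) (Matrix.diagonal (fun i => 1 - d i)) *ᵥ u)
          (Sum.inl i)
        * (Matrix.fromBlocks (Matrix.diagonal (fun i => 1 - d i))
        (Matrix.diagonal d) (Matrix.diagonal d) (Matrix.diagonal (fun i => 1 - d i)) *ᵥ u)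
          (Sum.inr i)
        = ∑ i : Fin m, u (Sum.inl i) * u (Sum.inr i)
      rw [Matrix.fromBlocks_mulVec]
      apply Finset.sum_congr rfl
      intro i _
      simp only [Sum.elim_inl, Sum.elim_inr, Pi.add_apply, Matrix.mulVec_diagonal,
        Function.comp_apply]
      linear_combination (-(u (Sum.inl i) - u (Sum.inr i)) ^ 2) * hd i⟩

theorem halfSwap_coe (𝒬 : QuadraticForm F (Fin m ⊕ Fin m → F))
    (h𝒬 : ∀ v, 𝒬 v = Cfsg.quadFormPlus m F v) (d : Fin m → F) (hd : ∀ i, d i * d i = d i) :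
    ((halfSwap 𝒬 h𝒬 d hd : Matrix.GeneralLinearGroup (Fin m ⊕ Fin m) F) :
      Matrix (Fin m ⊕ Fin m) (Fin m ⊕ Fin m) F)
      = Matrix.fromBlocks (Matrix.diagonal (fun i => 1 - d i)) (Matrix.diagonal d)
      (Matrix.diagonal d) (Matrix.diagonal (fun i => 1 - d i)) := rfl

theorem rev_mul_rev :
    (Matrix.of fun i j : Fin m => if j = Fin.rev i then (1 : F) else 0)
      * (Matrix.of fun i j : Fin m => if j = Fin.rev i then (1 : F) else 0) = 1 := by
  ext i j
  rw [Matrix.mul_apply, Matrix.one_apply]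
  simp only [Matrix.of_apply]
  rw [Finset.sum_eq_single (Fin.rev i)]
  · simp [Fin.rev_rev, eq_comm]
  · intro l _ hl
    simp [hl]
  · intro h
    exact absurd (Finset.mem_univ _) h

/-- The reversal permutation matrix. -/
noncomputable def revGL (F : Type*) [Field F] (m : ℕ) : Matrix.GeneralLinearGroup (Fin m) F :=
  ⟨Matrix.of fun i j : Fin m => if j = Fin.rev i then (1 : F) else 0,
    Matrix.of fun i j : Fin m => if j = Fin.rev i then (1 : F) else 0, rev_mul_rev, rev_mul_rev⟩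

theorem revGL_coe : ((revGL F m : Matrix.GeneralLinearGroup (Fin m) F) : Matrix (Fin m) (Fin m) F)
    = Matrix.of fun i j : Fin m => if j = Fin.rev i then (1 : F) else 0 := rfl

theorem revGL_inv_coe :
    (((revGL F m)⁻¹ : Matrix.GeneralLinearGroup (Fin m) F) : Matrix (Fin m) (Fin m) F)
    = Matrix.of fun i j : Fin m => if j = Fin.rev i then (1 : F) else 0 := rfl

/-- For even `m` the swap of the two standard maximal totally singular subspaces is a
commutator of isometries. -/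
theorem plusSwap_mem_comm (hm : Even m) (𝒬 : QuadraticForm F (Fin m ⊕ Fin m → F))
    (h𝒬 : ∀ v, 𝒬 v = Cfsg.quadFormPlus m F v) :
    plusSwap 𝒬 h𝒬 ∈ commutator ↥(Cfsg.isometryGroup F ⇑𝒬) := by
  obtain ⟨d, hddef⟩ : ∃ d : Fin m → F, d = fun i : Fin m => if Even (i : ℕ) then (1 : F) else 0 :=
    ⟨_, rfl⟩
  have hd : ∀ i, d i * d i = d i := by
    intro i
    rw [hddef]
    by_cases hi : Even (i : ℕ) <;> simp [hi]
  have hdrev : ∀ i : Fin m, d (Fin.rev i) = 1 - d i := by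
    intro i
    have hi1 : (i : ℕ) + 1 ≤ m := i.2
    rw [hddef]
    by_cases hi : Even (i : ℕ)
    · simp [Fin.val_rev, Nat.even_sub hi1, Nat.even_add_one, hm, hi]
    · simp [Fin.val_rev, Nat.even_sub hi1, Nat.even_add_one, hm, hi]
  have hT : ((revGL F m : Matrix.GeneralLinearGroup (Fin m) F) : Matrix (Fin m) (Fin m) F)ᵀ
      = ((revGL F m : Matrix.GeneralLinearGroup (Fin m) F) : Matrix (Fin m) (Fin m) F) := by
    ext i j
    simp only [revGL_coe, Matrix.transpose_apply, Matrix.of_apply]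
    by_cases hij : j = Fin.rev i
    · have h5 : i = Fin.rev j := by rw [hij, Fin.rev_rev]
      rw [if_pos h5, if_pos hij]
    · have h5 : ¬ i = Fin.rev j := by
        intro h
        apply hij
        rw [h, Fin.rev_rev]
      rw [if_neg h5, if_neg hij]
  have hDA : Matrix.diagonal (fun i => 1 - d i)
      * ((revGL F m : Matrix.GeneralLinearGroup (Fin m) F) : Matrix (Fin m) (Fin m) F)
      = ((revGL F m : Matrix.GeneralLinearGroup (Fin m) F) : Matrix (Fin m) (Fin m) F)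
        * Matrix.diagonal d := by
    ext i j
    rw [Matrix.diagonal_mul, Matrix.mul_diagonal, revGL_coe, Matrix.of_apply]
    by_cases hij : j = Fin.rev i
    · rw [if_pos hij, hij, hdrev]
      ring
    · rw [if_neg hij]
      ring
  have hDA' : Matrix.diagonal d
      * ((revGL F m : Matrix.GeneralLinearGroup (Fin m) F) : Matrix (Fin m) (Fin m) F)
      = ((revGL F m : Matrix.GeneralLinearGroup (Fin m) F) : Matrix (Fin m) (Fin m) F)
        * Matrix.diagonal (fun i => 1 - d i) := by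
    ext i j
    rw [Matrix.diagonal_mul, Matrix.mul_diagonal, revGL_coe, Matrix.of_apply]
    by_cases hij : j = Fin.rev i
    · rw [if_pos hij, hij, hdrev]
      ring
    · rw [if_neg hij]
      ring
  have hrel : halfSwap 𝒬 h𝒬 d hd * plusDiagHom 𝒬 h𝒬 (revGL F m)
      = plusSwap 𝒬 h𝒬 * plusDiagHom 𝒬 h𝒬 (revGL F m) * halfSwap 𝒬 h𝒬 d hd := by
    apply Subtype.ext
    apply Units.ext
    rw [Subgroup.coe_mul, Subgroup.coe_mul, Subgroup.coe_mul, Units.val_mul, Units.val_mul,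
      Units.val_mul, plusSwap_coe, plusDiagHom_coe, halfSwap_coe, revGL_inv_coe, ← revGL_coe, hT,
      Matrix.fromBlocks_multiply, Matrix.fromBlocks_multiply, Matrix.fromBlocks_multiply]
    simp only [Matrix.mul_zero, Matrix.zero_mul, add_zero, zero_add, Matrix.one_mul, hDA, hDA']
  have h3 : plusSwap 𝒬 h𝒬 = ⁅halfSwap 𝒬 h𝒬 d hd, plusDiagHom 𝒬 h𝒬 (revGL F m)⁆ := by
    rw [commutatorElement_def, hrel]
    group
  rw [h3]
  exact Subgroup.commutator_mem_commutator (Subgroup.mem_top _) (Subgroup.mem_top _)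

end

end Cfsg.Agent.Helper5
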