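import Mathlib
import Cfsg.Agent.Helper5.CD2
import Cfsg.Agent.Helper5.RSign
import Cfsg.Agent.Helper5.MaxSing
import Cfsg.Agent.Helper5.PlusDickson

/-!
The Dickson character in characteristic two for an arbitrary quadratic form with non-degenerate
polar form: `g ↦ (-1) ^ rank (g - 1)` is a homomorphism (the diagonal of `V × V` is a maximal
totally singular subspace for `Q ⊕ Q`), equal to `-1` on reflections; and the commutator
subgroup of the isometry group is its kernel.
-/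

set_option autoImplicit false

namespace Cfsg.Agent.Helper5

section Abs

variable {F V : Type*} [Field F] [AddCommGroup V] [Module F V] [FiniteDimensional F V]

omit [FiniteDimensional F V] in
theorem iso_inj (Q : QuadraticForm F V) (hQ : (QuadraticMap.polarBilin Q).Nondegenerate)
    (f : V →ₗ[F] V) (hfQ : ∀ v, Q (f v) = Q v) : Function.Injective f := by
  refine (injective_iff_map_eq_zero f).2 (fun v hv => ?_)
  apply hQ.1 v
  intro y
  change QuadraticMap.polar (⇑Q) v y = 0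
  have h1 : QuadraticMap.polar (⇑Q) (f v) (f y) = QuadraticMap.polar (⇑Q) v y := by
    rw [kit_polar_def, kit_polar_def, ← map_add, hfQ, hfQ, hfQ]
  rw [← h1, hv, QuadraticMap.polar_zero_left]

theorem fix_cocycle (h2 : (2 : F) = 0) (Q : QuadraticForm F V)
    (hQ : (QuadraticMap.polarBilin Q).Nondegenerate)
    (f g : V →ₗ[F] V) (hfQ : ∀ v, Q (f v) = Q v) (hgQ : ∀ v, Q (g v) = Q v) :
    (Module.finrank F ↥(LinearMap.ker (f - LinearMap.id))
      + Module.finrank F ↥(LinearMap.ker (g - LinearMap.id))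
      + Module.finrank F ↥(LinearMap.ker (f ∘ₗ g - LinearMap.id))) % 2
      = Module.finrank F V % 2 := by
  classical
  obtain ⟨QQ, hQQ⟩ : ∃ QQ : QuadraticForm F (V × V), ∀ p, QQ p = Q p.1 + Q p.2 :=
    ⟨QuadraticMap.prod Q Q, fun p => rfl⟩
  have hpol : ∀ p q : V × V, QuadraticMap.polar (⇑QQ) p q
      = QuadraticMap.polar (⇑Q) p.1 q.1 + QuadraticMap.polar (⇑Q) p.2 q.2 := by
    intro p q
    rw [kit_polar_def, kit_polar_def, kit_polar_def, hQQ, hQQ, hQQ]
    simp only [Prod.fst_add, Prod.snd_add]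
    ring
  have hnd : (QuadraticMap.polarBilin QQ).Nondegenerate := by
    have hsep : ∀ p : V × V, (∀ q, QuadraticMap.polar (⇑QQ) p q = 0) → p = 0 := by
      intro p hp
      apply Prod.ext
      · apply hQ.1 p.1
        intro y
        have := hp (y, 0)
        rw [hpol] at this
        simp only [QuadraticMap.polar_zero_right, add_zero] at this
        exact this
      · apply hQ.1 p.2
        intro y
        have := hp (0, y)
        rw [hpol] at this
        simp only [QuadraticMap.polar_zero_right, zero_add] at this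
        exact this
    refine ⟨fun p hp => hsep p (fun q => hp q), fun p hp => hsep p (fun q => ?_)⟩
    rw [QuadraticMap.polar_comm]
    exact hp q
  obtain ⟨dg, hdg⟩ : ∃ dg : V →ₗ[F] V × V, ∀ v, dg v = (v, v) :=
    ⟨LinearMap.prod LinearMap.id LinearMap.id, fun v => rfl⟩
  have hdginj : Function.Injective dg := by
    intro a b hab
    rw [hdg, hdg] at hab
    exact (Prod.ext_iff.1 hab).1
  obtain ⟨E, hE⟩ : ∃ E : Submodule F (V × V), E = LinearMap.range dg := ⟨_, rfl⟩
  have hEmem : ∀ p : V × V, p ∈ E ↔ p.1 = p.2 := by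
    intro p
    rw [hE, LinearMap.mem_range]
    constructor
    · rintro ⟨v, rfl⟩
      rw [hdg]
    · intro hp
      refine ⟨p.1, ?_⟩
      rw [hdg]
      exact Prod.ext rfl hp
  have hEmts : IsMTS QQ (Module.finrank F V) E := by
    refine ⟨?_, fun p hp => ?_⟩
    · rw [hE]
      exact LinearMap.finrank_range_of_inj hdginj
    · rw [hQQ, (hEmem p).1 hp]
      linear_combination (Q p.2) * h2
  have hW : Module.finrank F (V × V) = 2 * Module.finrank F V := by
    rw [Module.finrank_prod]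
    ring
  have hkey : ∀ φ : V →ₗ[F] V,
      Module.finrank F ↥(E ⊓ E.map (φ.prodMap (LinearMap.id : V →ₗ[F] V)))
        = Module.finrank F ↥(LinearMap.ker (φ - LinearMap.id)) := by
    intro φ
    have hset : E ⊓ E.map (φ.prodMap (LinearMap.id : V →ₗ[F] V))
        = (LinearMap.ker (φ - LinearMap.id)).map dg := by
      ext p
      rw [Submodule.mem_inf, hEmem, Submodule.mem_map, Submodule.mem_map]
      constructor
      · rintro ⟨h1, q, hq, hqp⟩
        rw [hEmem] at hq
        have h3 : φ q.1 = p.1 := congrArg Prod.fst hqp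
        have h4 : q.2 = p.2 := by
          have h6 := congrArg Prod.snd hqp
          exact h6
        have h5 : q.1 = p.1 := by rw [hq, h4, h1]
        refine ⟨p.1, ?_, ?_⟩
        · rw [LinearMap.mem_ker, LinearMap.sub_apply, LinearMap.id_apply, sub_eq_zero]
          calc φ p.1 = φ q.1 := by rw [h5]
            _ = p.1 := h3
        · rw [hdg]
          exact Prod.ext rfl h1
      · rintro ⟨v, hv, rfl⟩
        rw [LinearMap.mem_ker, LinearMap.sub_apply, LinearMap.id_apply, sub_eq_zero] at hv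
        refine ⟨by rw [hdg], dg v, ?_, ?_⟩
        · rw [hEmem, hdg]
        · rw [hdg]
          exact Prod.ext hv rfl
    rw [hset]
    exact (LinearEquiv.finrank_eq (Submodule.equivMapOfInjective dg hdginj _)).symm
  have hhat : ∀ φ : V →ₗ[F] V, (∀ v, Q (φ v) = Q v) →
      Function.Injective (φ.prodMap (LinearMap.id : V →ₗ[F] V)) ∧
        ∀ p, QQ (φ.prodMap (LinearMap.id : V →ₗ[F] V) p) = QQ p := by
    intro φ hφ
    constructor
    · intro p q hpq
      have h3 : φ p.1 = φ q.1 := congrArg Prod.fst hpq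
      have h4 : p.2 = q.2 := by
        have h6 := congrArg Prod.snd hpq
        exact h6
      exact Prod.ext (iso_inj Q hQ φ hφ h3) h4
    · intro p
      rw [hQQ, hQQ]
      change Q (φ p.1) + Q p.2 = _
      rw [hφ]
  have hc := mts_cocycle QQ hW hnd E hEmts (f.prodMap LinearMap.id) (g.prodMap LinearMap.id)
    (hhat f hfQ).1 (hhat f hfQ).2 (hhat g hgQ).1 (hhat g hgQ).2
  have hcomp : (f.prodMap (LinearMap.id : V →ₗ[F] V)) ∘ₗ (g.prodMap (LinearMap.id : V →ₗ[F] V))
      = (f ∘ₗ g).prodMap LinearMap.id := by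
    apply LinearMap.ext
    intro p
    rfl
  rw [hcomp, hkey, hkey, hkey] at hc
  exact hc

end Abs

section Mat

variable {F : Type*} [Field F] {κ : Type} [Fintype κ] [DecidableEq κ]

/-- The Dickson character in characteristic two. -/
noncomputable def dick2 (h2 : (2 : F) = 0) (Q : QuadraticForm F (κ → F))
    (hQ : (QuadraticMap.polarBilin Q).Nondegenerate) : ↥(Cfsg.isometryGroup F ⇑Q) →* ℤˣ where
  toFun g := (-1) ^ (Fintype.card κ - Module.finrank F ↥(LinearMap.ker (Matrix.mulVecLin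
    ((g : Matrix.GeneralLinearGroup κ F) : Matrix κ κ F) - LinearMap.id)))
  map_one' := by
    have h1 : Matrix.mulVecLin
        (((1 : ↥(Cfsg.isometryGroup F ⇑Q)) : Matrix.GeneralLinearGroup κ F) : Matrix κ κ F)
        = LinearMap.id := by
      have h3 : (((1 : ↥(Cfsg.isometryGroup F ⇑Q)) : Matrix.GeneralLinearGroup κ F) :
          Matrix κ κ F) = 1 := rfl
      rw [h3, Matrix.mulVecLin_one]
    rw [h1, sub_self, LinearMap.ker_zero, finrank_top, Module.finrank_fintype_fun_eq_card,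
      Nat.sub_self, pow_zero]
  map_mul' g h := by
    have hc := fix_cocycle h2 Q hQ
      (Matrix.mulVecLin ((g : Matrix.GeneralLinearGroup κ F) : Matrix κ κ F))
      (Matrix.mulVecLin ((h : Matrix.GeneralLinearGroup κ F) : Matrix κ κ F))
      (mulVecLin_isom ⇑Q g) (mulVecLin_isom ⇑Q h)
    have e : Matrix.mulVecLin (((g * h : ↥(Cfsg.isometryGroup F ⇑Q)) :
        Matrix.GeneralLinearGroup κ F) : Matrix κ κ F)
        = Matrix.mulVecLin ((g : Matrix.GeneralLinearGroup κ F) : Matrix κ κ F)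
          ∘ₗ Matrix.mulVecLin ((h : Matrix.GeneralLinearGroup κ F) : Matrix κ κ F) := by
      rw [Subgroup.coe_mul, Units.val_mul, Matrix.mulVecLin_mul]
    rw [e]
    have b1 := Submodule.finrank_le (LinearMap.ker (Matrix.mulVecLin
      ((g : Matrix.GeneralLinearGroup κ F) : Matrix κ κ F) - LinearMap.id))
    have b2 := Submodule.finrank_le (LinearMap.ker (Matrix.mulVecLin
      ((h : Matrix.GeneralLinearGroup κ F) : Matrix κ κ F) - LinearMap.id))
    have b3 := Submodule.finrank_le (LinearMap.ker (Matrix.mulVecLin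
      ((g : Matrix.GeneralLinearGroup κ F) : Matrix κ κ F)
        ∘ₗ Matrix.mulVecLin ((h : Matrix.GeneralLinearGroup κ F) : Matrix κ κ F)
        - LinearMap.id))
    rw [Module.finrank_fintype_fun_eq_card] at b1 b2 b3 hc
    rw [← pow_add]
    apply neg_one_units_pow_congr
    omega

theorem dick2_apply (h2 : (2 : F) = 0) (Q : QuadraticForm F (κ → F))
    (hQ : (QuadraticMap.polarBilin Q).Nondegenerate) (g : ↥(Cfsg.isometryGroup F ⇑Q)) :
    dick2 h2 Q hQ g = (-1) ^ (Fintype.card κ - Module.finrank F ↥(LinearMap.ker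
      (Matrix.mulVecLin ((g : Matrix.GeneralLinearGroup κ F) : Matrix κ κ F) - LinearMap.id))) :=
  rfl

theorem dick2_comm (h2 : (2 : F) = 0) (Q : QuadraticForm F (κ → F))
    (hQ : (QuadraticMap.polarBilin Q).Nondegenerate) (g : ↥(Cfsg.isometryGroup F ⇑Q))
    (hg : g ∈ commutator ↥(Cfsg.isometryGroup F ⇑Q)) : dick2 h2 Q hQ g = 1 :=
  MonoidHom.mem_ker.1 (Abelianization.commutator_subset_ker (dick2 h2 Q hQ) hg)

theorem dick2_refl (h2 : (2 : F) = 0) (Q : QuadraticForm F (κ → F))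
    (hQ : (QuadraticMap.polarBilin Q).Nondegenerate) (g : ↥(Cfsg.isometryGroup F ⇑Q))
    (w : κ → F) (hw : Q w ≠ 0) (hg : ActsRefl Q g w) : dick2 h2 Q hQ g = -1 := by
  have hker : LinearMap.ker (Matrix.mulVecLin
      ((g : Matrix.GeneralLinearGroup κ F) : Matrix κ κ F) - LinearMap.id)
      = LinearMap.ker (QuadraticMap.polarBilin Q w) := by
    ext x
    rw [LinearMap.mem_ker, LinearMap.mem_ker, LinearMap.sub_apply, LinearMap.id_apply,
      Matrix.mulVecLin_apply]
    have hx := hg x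
    rw [isoActF_apply] at hx
    rw [hx]
    constructor
    · intro h
      have h3 : ((Q w)⁻¹ * QuadraticMap.polar (⇑Q) w x) • w = 0 := by
        have h4 : x - ((Q w)⁻¹ * QuadraticMap.polar (⇑Q) w x) • w - x
            = -(((Q w)⁻¹ * QuadraticMap.polar (⇑Q) w x) • w) := by abel
        rw [h4, neg_eq_zero] at h
        exact h
      rcases smul_eq_zero.1 h3 with h4 | h4
      · rcases mul_eq_zero.1 h4 with h5 | h5
        · exact absurd h5 (inv_ne_zero hw)
        · exact h5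
      · exact absurd (by rw [h4, map_zero]) hw
    · intro h
      have h' : QuadraticMap.polar (⇑Q) w x = 0 := h
      rw [h', mul_zero, zero_smul, sub_zero, sub_self]
  have hne : QuadraticMap.polarBilin Q w ≠ 0 := by
    intro h0
    apply hw
    have hw0 : w = 0 := hQ.1 w (fun y => by rw [h0]; rfl)
    rw [hw0, map_zero]
  have hfr := Module.Dual.finrank_ker_add_one_of_ne_zero hne
  rw [Module.finrank_fintype_fun_eq_card] at hfr
  rw [dick2_apply, hker]
  have h5 : Fintype.card κ - Module.finrank F ↥(LinearMap.ker (QuadraticMap.polarBilin Q w))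
      = 1 := by omega
  rw [h5, pow_one]

variable [Fintype F]

/-- Induction over products of reflections in characteristic two. -/
theorem refl_induction2 (h2 : (2 : F) = 0) (Q : QuadraticForm F (κ → F))
    (hQ : (QuadraticMap.polarBilin Q).Nondegenerate)
    (h : Fintype.card F ≠ 2 ∨ Fintype.card κ ≠ 4)
    (P : ↥(Cfsg.isometryGroup F ⇑Q) → Prop) (h1 : P 1) (hmul : ∀ a b, P a → P b → P (a * b))
    (hrefl : ∀ g w, Q w ≠ 0 → ActsRefl Q g w → P g) (g : ↥(Cfsg.isometryGroup F ⇑Q)) : P g := by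
  obtain ⟨ℓ, ⟨y, hy, hPy⟩, hℓ⟩ := cd_gen2 Q hQ h2
    (by rw [Module.finrank_fintype_fun_eq_card]; exact h)
    (fun ℓ => ∃ y : ↥(Cfsg.isometryGroup F ⇑Q), (∀ x, isoActF ⇑Q y x = ℓ x) ∧ P y)
    ⟨1, fun x => by rw [map_one]; rfl, h1⟩
    (fun g₁ g₂ hg₁ hg₂ => by
      obtain ⟨y₁, hy₁, hP₁⟩ := hg₁
      obtain ⟨y₂, hy₂, hP₂⟩ := hg₂
      refine ⟨y₂ * y₁, fun x => ?_, hmul _ _ hP₂ hP₁⟩
      rw [map_mul, LinearEquiv.mul_apply, hy₁, hy₂]
      rfl)
    (fun v hv => ⟨reflEl Q v hv, fun x => by rw [actsRefl_reflEl Q v hv x]; rfl,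
      hrefl _ v hv (actsRefl_reflEl Q v hv)⟩)
    (fun ℓ hℓ v => by
      obtain ⟨y, hy, -⟩ := hℓ
      rw [← hy, isoActF_isom ⇑Q])
    ((isoActF ⇑Q g : (κ → F) ≃ₗ[F] (κ → F)) : (κ → F) →ₗ[F] (κ → F))
    (fun v => isoActF_isom ⇑Q g v)
  have hyg : y = g := by
    apply isoActF_injective ⇑Q
    apply LinearEquiv.ext
    intro x
    rw [hy, hℓ]
    rfl
  rw [← hyg]
  exact hPy

theorem refl_move2 (h2 : (2 : F) = 0) (Q : QuadraticForm F (κ → F))
    (hQ : (QuadraticMap.polarBilin Q).Nondegenerate)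
    (h : Fintype.card F ≠ 2 ∨ Fintype.card κ ≠ 4) (w w' : κ → F)
    (hw : Q w ≠ 0) (hww' : Q w' = Q w) :
    ∃ y : ↥(Cfsg.isometryGroup F ⇑Q), isoActF ⇑Q y w = w' := by
  obtain ⟨ℓ, ⟨y, hy⟩, hℓ⟩ := cd2_trans Q hQ h2
    (by rw [Module.finrank_fintype_fun_eq_card]; exact h)
    (fun ℓ => ∃ y : ↥(Cfsg.isometryGroup F ⇑Q), ∀ x, isoActF ⇑Q y x = ℓ x)
    ⟨1, fun x => by rw [map_one]; rfl⟩
    (fun g₁ g₂ hg₁ hg₂ => by
      obtain ⟨y₁, hy₁⟩ := hg₁
      obtain ⟨y₂, hy₂⟩ := hg₂
      refine ⟨y₂ * y₁, fun x => ?_⟩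
      rw [map_mul, LinearEquiv.mul_apply, hy₁, hy₂]
      rfl)
    (fun v hv => ⟨reflEl Q v hv, fun x => by rw [actsRefl_reflEl Q v hv x]; rfl⟩)
    w w' hw hww'
  exact ⟨y, by rw [hy, hℓ]⟩

omit [Fintype F] in
theorem actsRefl_sq (Q : QuadraticForm F (κ → F)) (a : ↥(Cfsg.isometryGroup F ⇑Q))
    (u : κ → F) (hu : Q u ≠ 0) (ha : ActsRefl Q a u) : a * a = 1 := by
  apply isoActF_injective ⇑Q
  apply LinearEquiv.ext
  intro x
  rw [map_mul, map_one]
  change isoActF ⇑Q a (isoActF ⇑Q a x) = x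
  have e1 : ∀ x, isoActF ⇑Q a x = reflEquiv Q u hu x := fun x => ha x
  rw [e1, e1]
  exact (reflEquiv Q u hu).left_inv x

open scoped commutatorElement in
theorem refl_pair_comm2 (h2 : (2 : F) = 0) (Q : QuadraticForm F (κ → F))
    (hQ : (QuadraticMap.polarBilin Q).Nondegenerate)
    (h : Fintype.card F ≠ 2 ∨ Fintype.card κ ≠ 4) (u v : κ → F) (hu : Q u ≠ 0) (hv : Q v ≠ 0)
    (a b : ↥(Cfsg.isometryGroup F ⇑Q)) (ha : ActsRefl Q a u) (hb : ActsRefl Q b v) :
    a * b ∈ commutator ↥(Cfsg.isometryGroup F ⇑Q) := by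
  obtain ⟨t, ht⟩ := FiniteField.isSquare_of_char_two
    (CharP.ringChar_of_prime_eq_zero Nat.prime_two (by exact_mod_cast h2)) (Q u / Q v)
  have ht0 : t ≠ 0 := by
    intro h0
    rw [h0, mul_zero] at ht
    exact (div_ne_zero hu hv) ht
  have hQtv : Q (t • v) = Q u := by
    rw [QuadraticMap.map_smul, smul_eq_mul, ← ht]
    field_simp
  obtain ⟨y, hy⟩ := refl_move2 h2 Q hQ h u (t • v) hu hQtv
  have hb' : ActsRefl Q b (t • v) := actsRefl_smul Q b v t ht0 hb
  have hc : ActsRefl Q (y * a * y⁻¹) (isoActF ⇑Q y u) := actsRefl_conj Q a y u ha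
  rw [hy] at hc
  have hbe : y * a * y⁻¹ = b := actsRefl_unique Q _ _ (t • v) hc hb'
  have hainv : a⁻¹ = a := inv_eq_of_mul_eq_one_left (actsRefl_sq Q a u hu ha)
  have h5 : a * b = ⁅a, y⁆ := by
    rw [commutatorElement_def, hainv, ← hbe]
    group
  rw [h5]
  exact Subgroup.commutator_mem_commutator (Subgroup.mem_top a) (Subgroup.mem_top y)

theorem omega2_cases (h2 : (2 : F) = 0) (Q : QuadraticForm F (κ → F))
    (hQ : (QuadraticMap.polarBilin Q).Nondegenerate)
    (h : Fintype.card F ≠ 2 ∨ Fintype.card κ ≠ 4) (g : ↥(Cfsg.isometryGroup F ⇑Q)) :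
    g ∈ commutator ↥(Cfsg.isometryGroup F ⇑Q) ∨
      ∃ s w, Q w ≠ 0 ∧ ActsRefl Q s w ∧ s * g ∈ commutator ↥(Cfsg.isometryGroup F ⇑Q) := by
  have hN : (commutator ↥(Cfsg.isometryGroup F ⇑Q)).Normal := inferInstance
  refine refl_induction2 h2 Q hQ h
    (fun g => g ∈ commutator ↥(Cfsg.isometryGroup F ⇑Q) ∨
      ∃ s w, Q w ≠ 0 ∧ ActsRefl Q s w ∧ s * g ∈ commutator ↥(Cfsg.isometryGroup F ⇑Q))
    (Or.inl (Subgroup.one_mem _)) ?_ ?_ g
  · intro a b ha hb
    rcases ha with ha | ⟨s, w, hw, hs, ha⟩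
    · rcases hb with hb | ⟨s', w', hw', hs', hb⟩
      · exact Or.inl (Subgroup.mul_mem _ ha hb)
      · refine Or.inr ⟨s', w', hw', hs', ?_⟩
        have h5 : s' * (a * b) = (s' * a * s'⁻¹) * (s' * b) := by group
        rw [h5]
        exact Subgroup.mul_mem _ (hN.conj_mem a ha s') hb
    · rcases hb with hb | ⟨s', w', hw', hs', hb⟩
      · refine Or.inr ⟨s, w, hw, hs, ?_⟩
        rw [← mul_assoc]
        exact Subgroup.mul_mem _ ha hb
      · left
        have h5 : a * b = (s⁻¹ * (s * a) * s⁻¹⁻¹) * (s' * s)⁻¹ * (s' * b) := by group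
        rw [h5]
        exact Subgroup.mul_mem _ (Subgroup.mul_mem _ (hN.conj_mem _ ha s⁻¹)
          (Subgroup.inv_mem _ (refl_pair_comm2 h2 Q hQ h w' w hw' hw s' s hs' hs))) hb
  · intro r w hw hr
    refine Or.inr ⟨r, w, hw, hr, ?_⟩
    rw [actsRefl_sq Q r w hw hr]
    exact Subgroup.one_mem _

theorem omega2_iff (h2 : (2 : F) = 0) (Q : QuadraticForm F (κ → F))
    (hQ : (QuadraticMap.polarBilin Q).Nondegenerate)
    (h : Fintype.card F ≠ 2 ∨ Fintype.card κ ≠ 4) (g : ↥(Cfsg.isometryGroup F ⇑Q)) :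
    g ∈ commutator ↥(Cfsg.isometryGroup F ⇑Q) ↔ dick2 h2 Q hQ g = 1 := by
  refine ⟨dick2_comm h2 Q hQ g, fun hg => ?_⟩
  rcases omega2_cases h2 Q hQ h g with h5 | ⟨s, w, hw, hs, h5⟩
  · exact h5
  · exfalso
    have h6 := dick2_comm h2 Q hQ _ h5
    rw [map_mul, hg, dick2_refl h2 Q hQ s w hw hs] at h6
    exact absurd h6 (by decide)

end Mat

end Cfsg.Agent.Helper5
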