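import Mathlib
import Cfsg.Agent.Helper11.AltRankGen

/-!
Part [T1] of the S2584 sprint: an isometry of a quadratic form with nondegenerate polar form
in characteristic two has `(A - 1) ^ k` of even rank for every even `k`.
-/

set_option autoImplicit false

namespace Cfsg.Agent.Helper5

open Matrix

theorem orth2_rank_even {F : Type*} [Field F] [CharP F 2] {n : ℕ}
    (Q : QuadraticForm F (Fin n → F)) (hQ : (QuadraticMap.polarBilin Q).Nondegenerate)
    (A : Matrix (Fin n) (Fin n) F) (hA : ∀ v, Q (A *ᵥ v) = Q v) (k : ℕ) (hk : Even k) :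
    Even ((A - 1) ^ k).rank := by
  obtain ⟨P, hPdef⟩ : ∃ P : Matrix (Fin n) (Fin n) F,
      P = LinearMap.BilinForm.toMatrix' (QuadraticMap.polarBilin Q) := ⟨_, rfl⟩
  have halt : ∀ v : Fin n → F, v ⬝ᵥ P *ᵥ v = 0 := by
    intro v
    rw [← Matrix.toBilin'_apply', hPdef, Matrix.toBilin'_toMatrix']
    show QuadraticMap.polar Q v v = 0
    rw [QuadraticMap.polar_self, two_smul]
    exact CharTwo.add_self_eq_zero (Q v)
  have hPdet : P.det ≠ 0 := by
    rw [hPdef]
    exact Matrix.nondegenerate_iff_det_ne_zero.1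
      (LinearMap.BilinForm.nondegenerate_toMatrix'_iff.2 hQ)
  have hAP : Aᵀ * P * A = P := by
    have haQ : ∀ v, Q (Matrix.toLin' A v) = Q v := by
      intro v
      rw [Matrix.toLin'_apply]
      exact hA v
    have hcomp : LinearMap.BilinForm.comp (QuadraticMap.polarBilin Q) (Matrix.toLin' A)
        (Matrix.toLin' A) = QuadraticMap.polarBilin Q := by
      refine LinearMap.ext fun u => LinearMap.ext fun w => ?_
      show Q (Matrix.toLin' A u + Matrix.toLin' A w) - Q (Matrix.toLin' A u)
        - Q (Matrix.toLin' A w) = Q (u + w) - Q u - Q w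
      rw [← map_add, haQ, haQ, haQ]
    have hP' := congrArg LinearMap.BilinForm.toMatrix' hcomp
    rw [LinearMap.BilinForm.toMatrix'_comp, LinearMap.toMatrix'_toLin'] at hP'
    rw [hPdef]
    exact hP'
  exact Cfsg.Agent.Helper11.alt_rank_even_gen A P halt hPdet hAP k hk

end Cfsg.Agent.Helper5
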