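import Mathlib
import Cfsg.Agent.Lead.NilBound

set_option autoImplicit false

namespace Cfsg.Agent.Helper5

/-- superadditivity of the 2-adic valuation of factorials -/
theorem np5_v_add (a b : ℕ) :
    a.factorial.factorization 2 + b.factorial.factorization 2
      ≤ (a + b).factorial.factorization 2 := by
  have hd := Nat.factorial_mul_factorial_dvd_factorial_add a b
  have h1 := (Nat.factorization_le_iff_dvd
    (Nat.mul_ne_zero a.factorial_ne_zero b.factorial_ne_zero)
    (a + b).factorial_ne_zero).mpr hd 2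
  rw [Nat.factorization_mul a.factorial_ne_zero b.factorial_ne_zero] at h1
  simpa using h1

theorem np5_v_mono {a b : ℕ} (h : a ≤ b) :
    a.factorial.factorization 2 ≤ b.factorial.factorization 2 :=
  (Nat.factorization_le_iff_dvd a.factorial_ne_zero b.factorial_ne_zero).mpr
    (Nat.factorial_dvd_factorial h) 2

/-- Legendre: `v_p((p n)!) = v_p(n!) + n`. -/
theorem np5_legendre (p : ℕ) (hp : p.Prime) (n : ℕ) :
    (p * n).factorial.factorization p = n.factorial.factorization p + n := by
  haveI : Fact p.Prime := ⟨hp⟩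
  rw [Nat.factorization_def _ hp, Nat.factorization_def _ hp]
  exact padicValNat_factorial_mul n

theorem np5_v2_succ_odd (m : ℕ) :
    (2 * m + 1).factorial.factorization 2 = (2 * m).factorial.factorization 2 := by
  rw [Nat.factorial_succ, Nat.factorization_mul (Nat.succ_ne_zero _) (Nat.factorial_ne_zero _),
    Finsupp.add_apply,
    Nat.factorization_eq_zero_of_not_dvd (n := 2 * m + 1) (p := 2) (by omega), zero_add]

theorem np5_v2_lt (N : ℕ) (hN : 0 < N) : N.factorial.factorization 2 < N := by
  induction N using Nat.strong_induction_on with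
  | _ N ih =>
    obtain ⟨m, rfl | rfl⟩ := Nat.even_or_odd' N
    · have hm : 0 < m := by omega
      rw [np5_legendre 2 Nat.prime_two m]
      have := ih m (by omega) hm
      omega
    · rw [np5_v2_succ_odd, np5_legendre 2 Nat.prime_two m]
      rcases Nat.eq_zero_or_pos m with rfl | hm
      · simp
      · have := ih m (by omega) hm
        omega

theorem np5_v2_odd (k : ℕ) (hk : Odd k) (h3 : 3 ≤ k) :
    k.factorial.factorization 2 + 2 ≤ k := by
  obtain ⟨m, rfl⟩ := hk
  rw [np5_v2_succ_odd]
  have h2 := np5_v2_lt (2 * m) (by omega)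
  omega

/-- `v_p((p^n)!)` -/
def np5A (p n : ℕ) : ℕ := (p ^ n).factorial.factorization p

/-- `v_2((p^n)!)` -/
def np5B (p n : ℕ) : ℕ := (p ^ n).factorial.factorization 2

theorem np5A_zero (p : ℕ) : np5A p 0 = 0 := by simp [np5A]

theorem np5A_succ (p : ℕ) (hp : p.Prime) (n : ℕ) : np5A p (n + 1) = np5A p n + p ^ n := by
  unfold np5A
  rw [pow_succ', np5_legendre p hp]

theorem np5_pp_gen (p r g : ℕ) (hp : p.Prime) (hpr : p = r + 1) (hg : p ≤ 2 ^ g)
    (hgain : ∀ k, g * k ≤ (r * k).factorial.factorization 2) (n : ℕ) :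
    p ^ np5A p n ≤ 2 ^ np5B p n := by
  induction n with
  | zero =>
    rw [np5A_zero, pow_zero]
    exact Nat.one_le_two_pow
  | succ n ih =>
    have hB : np5B p n + g * p ^ n ≤ np5B p (n + 1) := by
      unfold np5B
      have h1 := np5_v_add (p ^ n) (r * p ^ n)
      have h2 : p ^ n + r * p ^ n = p ^ (n + 1) := by rw [hpr]; ring
      rw [h2] at h1
      exact le_trans (Nat.add_le_add_left (hgain (p ^ n)) _) h1
    rw [np5A_succ p hp, pow_add]
    calc p ^ np5A p n * p ^ p ^ n ≤ 2 ^ np5B p n * (2 ^ g) ^ p ^ n :=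
          Nat.mul_le_mul ih (Nat.pow_le_pow_left hg _)
      _ = 2 ^ (np5B p n + g * p ^ n) := by ring
      _ ≤ 2 ^ np5B p (n + 1) := Nat.pow_le_pow_right (by norm_num) hB

theorem np5A3_closed (n : ℕ) : 2 * np5A 3 n + 1 = 3 ^ n := by
  induction n with
  | zero => rw [np5A_zero]; norm_num
  | succ n ih =>
    rw [np5A_succ 3 Nat.prime_three, pow_succ]
    omega

theorem np5B3_succ (n : ℕ) : 2 * np5B 3 n + 3 ^ n ≤ np5B 3 (n + 1) := by
  unfold np5B
  have h1 := np5_v_add (3 ^ n) (2 * 3 ^ n)
  have h2 : 3 ^ n + 2 * 3 ^ n = 3 ^ (n + 1) := by ring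
  rw [h2, np5_legendre 2 Nat.prime_two] at h1
  omega

theorem np5B3_small (n : ℕ) (hn : 1 ≤ n) : np5B 3 n + 2 ≤ 3 ^ n := by
  unfold np5B
  exact np5_v2_odd (3 ^ n) (Odd.pow (by decide)) (Nat.le_self_pow (by omega) 3)

theorem np5A3_one : np5A 3 1 = 1 := by
  have h := np5A_succ 3 Nat.prime_three 0
  rw [np5A_zero] at h
  simpa using h

theorem np5A3_two : np5A 3 2 = 4 := by
  have h := np5A_succ 3 Nat.prime_three 1
  rw [np5A3_one] at h
  simpa using h

theorem np5B3_two : 7 ≤ np5B 3 2 := by
  unfold np5B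
  exact (Nat.Prime.pow_dvd_iff_le_factorization Nat.prime_two (Nat.factorial_ne_zero _)).mp
    (by decide)

theorem np5_pp3 (n : ℕ) (hn : 2 ≤ n) : 3 ^ np5A 3 n ≤ 2 ^ np5B 3 n := by
  induction n, hn using Nat.le_induction with
  | base =>
    rw [np5A3_two]
    calc (3 : ℕ) ^ 4 ≤ 2 ^ 7 := by norm_num
      _ ≤ 2 ^ np5B 3 2 := Nat.pow_le_pow_right (by norm_num) np5B3_two
  | succ n hn ih =>
    have hA := np5A_succ 3 Nat.prime_three n
    have hcl := np5A3_closed n
    have hBr := np5B3_succ n
    have hBs := np5B3_small n (by omega)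
    have hexp : 3 * np5B 3 n + 2 ≤ np5B 3 (n + 1) := by omega
    calc 3 ^ np5A 3 (n + 1) = 3 ^ (np5A 3 n + (2 * np5A 3 n + 1)) := by rw [hA, hcl]
      _ = 3 * (3 ^ np5A 3 n) ^ 3 := by ring
      _ ≤ 3 * (2 ^ np5B 3 n) ^ 3 := Nat.mul_le_mul_left 3 (Nat.pow_le_pow_left ih 3)
      _ ≤ 2 ^ 2 * (2 ^ np5B 3 n) ^ 3 := Nat.mul_le_mul_right _ (by norm_num)
      _ = 2 ^ (3 * np5B 3 n + 2) := by ring
      _ ≤ 2 ^ np5B 3 (n + 1) := Nat.pow_le_pow_right (by norm_num) hexp

theorem np5_two_pow (s : ℕ) (hs : 3 ≤ s) : 2 * s + 1 ≤ 2 ^ s := by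
  induction s, hs using Nat.le_induction with
  | base => norm_num
  | succ s hs ih =>
    rw [pow_succ]
    omega

/-- Sylow `p`-subgroups of `S_q` (`q = p^n ≠ 3`) are not larger than Sylow 2-subgroups. -/
theorem np5_pp (p n : ℕ) (hp : p.Prime) (h3 : p ^ n ≠ 3) : p ^ np5A p n ≤ 2 ^ np5B p n := by
  rcases hp.eq_two_or_odd' with rfl | ⟨s, hs⟩
  · unfold np5A np5B
    exact le_refl _
  · have hs1 : 1 ≤ s := by
      have := hp.two_le
      omega
    rcases Nat.lt_or_ge s 3 with hlt | hge
    · interval_cases s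
      · have hp3 : p = 3 := by omega
        subst hp3
        rcases Nat.lt_or_ge n 2 with hn | hn
        · interval_cases n
          · rw [np5A_zero, pow_zero]
            exact Nat.one_le_two_pow
          · exact (h3 (by norm_num)).elim
        · exact np5_pp3 n hn
      · have hp5 : p = 5 := by omega
        subst hp5
        refine np5_pp_gen 5 4 3 hp rfl (by norm_num) ?_ n
        intro k
        have h1 := np5_legendre 2 Nat.prime_two (2 * k)
        have h2 := np5_legendre 2 Nat.prime_two k
        have h4 : 4 * k = 2 * (2 * k) := by ring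
        rw [h4, h1, h2]
        omega
    · refine np5_pp_gen p (2 * s) s hp hs (by rw [hs]; exact np5_two_pow s hge) ?_ n
      intro k
      have h1 := np5_legendre 2 Nat.prime_two (s * k)
      have h4 : 2 * s * k = 2 * (s * k) := by ring
      rw [h4, h1]
      exact Nat.le_add_left _ _

theorem np5_nilBound_pp (p n : ℕ) (hp : p.Prime) (hn : n ≠ 0) :
    Lead.nilBound (p ^ n) = p ^ np5A p n := by
  unfold Lead.nilBound np5A
  rw [Nat.primeFactors_prime_pow hn hp, Finset.prod_singleton, hp.factorization_pow,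
    Finsupp.single_eq_same]

theorem np5_nilBound_mul (a b : ℕ) (ha : a ≠ 0) (hb : b ≠ 0) (hab : Nat.Coprime a b) :
    Lead.nilBound (a * b) = Lead.nilBound a * Lead.nilBound b := by
  unfold Lead.nilBound
  rw [Nat.primeFactors_mul ha hb, Finset.prod_union hab.disjoint_primeFactors]
  have e1 : ∀ p ∈ a.primeFactors, (a * b).factorization p = a.factorization p := by
    intro p hp
    have hp' := Nat.prime_of_mem_primeFactors hp
    have hpa := Nat.dvd_of_mem_primeFactors hp
    have hpb : ¬ p ∣ b :=
      (Nat.Prime.coprime_iff_not_dvd hp').mp (Nat.Coprime.coprime_dvd_left hpa hab)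
    rw [Nat.factorization_mul ha hb, Finsupp.add_apply,
      Nat.factorization_eq_zero_of_not_dvd hpb, add_zero]
  have e2 : ∀ p ∈ b.primeFactors, (a * b).factorization p = b.factorization p := by
    intro p hp
    have hp' := Nat.prime_of_mem_primeFactors hp
    have hpb := Nat.dvd_of_mem_primeFactors hp
    have hpa : ¬ p ∣ a :=
      (Nat.Prime.coprime_iff_not_dvd hp').mp (Nat.Coprime.coprime_dvd_left hpb hab.symm)
    rw [Nat.factorization_mul ha hb, Finsupp.add_apply,
      Nat.factorization_eq_zero_of_not_dvd hpa, zero_add]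
  have E1 : ∏ p ∈ a.primeFactors, p ^ ((p ^ (a * b).factorization p).factorial.factorization p)
      = ∏ p ∈ a.primeFactors, p ^ ((p ^ a.factorization p).factorial.factorization p) :=
    Finset.prod_congr rfl (fun p hp => by rw [e1 p hp])
  have E2 : ∏ p ∈ b.primeFactors, p ^ ((p ^ (a * b).factorization p).factorial.factorization p)
      = ∏ p ∈ b.primeFactors, p ^ ((p ^ b.factorization p).factorial.factorization p) :=
    Finset.prod_congr rfl (fun p hp => by rw [e2 p hp])
  rw [E1, E2]

theorem np5_nilBound_zero : Lead.nilBound 0 = 1 := by simp [Lead.nilBound]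

theorem np5_nilBound_one : Lead.nilBound 1 = 1 := by simp [Lead.nilBound]

theorem nilBound_three : Lead.nilBound 3 = 3 := by
  have h := np5_nilBound_pp 3 1 Nat.prime_three one_ne_zero
  rw [np5A3_one] at h
  simpa using h

theorem np5_add_le_mul (a b : ℕ) (ha : 2 ≤ a) (hb : 2 ≤ b) : a + b ≤ a * b := by
  obtain ⟨a', rfl⟩ := Nat.exists_eq_add_of_le ha
  obtain ⟨b', rfl⟩ := Nat.exists_eq_add_of_le hb
  nlinarith [Nat.zero_le (a' * b')]

theorem np5_v4 : 2 ≤ (4 : ℕ).factorial.factorization 2 :=
  (Nat.Prime.pow_dvd_iff_le_factorization Nat.prime_two (Nat.factorial_ne_zero 4)).mp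
    (by decide)

theorem np5_three_mul (b : ℕ) (hb : 2 ≤ b) :
    b.factorial.factorization 2 + 2 ≤ (3 * b).factorial.factorization 2 := by
  have h4 := np5_v_add b 4
  have h5 := np5_v4
  have h6 := np5_v_mono (show b + 4 ≤ 3 * b by omega)
  omega

theorem np5_main (m : ℕ) :
    m ≠ 3 → Lead.nilBound m ≤ 2 ^ (m.factorial.factorization 2) := by
  induction m using Nat.recOnPrimeCoprime with
  | zero =>
    intro _
    rw [np5_nilBound_zero]
    exact Nat.one_le_two_pow
  | prime_pow p n hp =>
    intro h3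
    rcases Nat.eq_zero_or_pos n with rfl | hn
    · rw [pow_zero, np5_nilBound_one]
      exact Nat.one_le_two_pow
    · rw [np5_nilBound_pp p n hp (by omega)]
      exact np5_pp p n hp h3
  | coprime a b ha hb hab iha ihb =>
    intro _
    rw [np5_nilBound_mul a b (by omega) (by omega) hab]
    by_cases ha3 : a = 3
    · subst ha3
      have hb3 : b ≠ 3 := by
        rintro rfl
        exact absurd hab (by decide)
      rw [nilBound_three]
      calc 3 * Lead.nilBound b ≤ 2 ^ 2 * 2 ^ (b.factorial.factorization 2) :=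
            Nat.mul_le_mul (by norm_num) (ihb hb3)
        _ = 2 ^ (b.factorial.factorization 2 + 2) := by ring
        _ ≤ 2 ^ ((3 * b).factorial.factorization 2) :=
            Nat.pow_le_pow_right (by norm_num) (np5_three_mul b (by omega))
    · by_cases hb3 : b = 3
      · subst hb3
        rw [nilBound_three]
        calc Lead.nilBound a * 3 ≤ 2 ^ (a.factorial.factorization 2) * 2 ^ 2 :=
              Nat.mul_le_mul (iha ha3) (by norm_num)
          _ = 2 ^ (a.factorial.factorization 2 + 2) := by ring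
          _ ≤ 2 ^ ((a * 3).factorial.factorization 2) := by
              rw [Nat.mul_comm a 3]
              exact Nat.pow_le_pow_right (by norm_num) (np5_three_mul a (by omega))
      · calc Lead.nilBound a * Lead.nilBound b
              ≤ 2 ^ (a.factorial.factorization 2) * 2 ^ (b.factorial.factorization 2) :=
              Nat.mul_le_mul (iha ha3) (ihb hb3)
          _ = 2 ^ (a.factorial.factorization 2 + b.factorial.factorization 2) := by ring
          _ ≤ 2 ^ ((a * b).factorial.factorization 2) :=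
              Nat.pow_le_pow_right (by norm_num)
                (le_trans (np5_v_add a b)
                  (np5_v_mono (np5_add_le_mul a b (by omega) (by omega))))

/-- [N1] the transitive bound is at most the order of a Sylow 2-subgroup of `S_m`, `m ≠ 3`. -/
theorem nilBound_le (m : ℕ) (hm : 0 < m) (h3 : m ≠ 3) :
    Lead.nilBound m ≤ 2 ^ (m.factorial.factorization 2) := np5_main m h3

end Cfsg.Agent.Helper5
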