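import Mathlib
import Cfsg.Agent.Lead.NilBound
import Cfsg.Agent.Helper5.NilPerm

set_option autoImplicit false

namespace Cfsg.Agent.Helper5

theorem np5B_gain (p r g : ℕ) (hpr : p = r + 1)
    (hgain : ∀ k, g * k ≤ (r * k).factorial.factorization 2) (n : ℕ) :
    np5B p n + g * p ^ n ≤ np5B p (n + 1) := by
  unfold np5B
  have h1 := np5_v_add (p ^ n) (r * p ^ n)
  have h2 : p ^ n + r * p ^ n = p ^ (n + 1) := by rw [hpr]; ring
  rw [h2] at h1
  exact le_trans (Nat.add_le_add_left (hgain (p ^ n)) _) h1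

theorem np5_gain5 (k : ℕ) : 3 * k ≤ (4 * k).factorial.factorization 2 := by
  have h1 := np5_legendre 2 Nat.prime_two (2 * k)
  have h2 := np5_legendre 2 Nat.prime_two k
  have h4 : 4 * k = 2 * (2 * k) := by ring
  rw [h4, h1, h2]
  omega

theorem np5_gain_odd (s k : ℕ) : s * k ≤ (2 * s * k).factorial.factorization 2 := by
  have h1 := np5_legendre 2 Nat.prime_two (s * k)
  have h4 : 2 * s * k = 2 * (s * k) := by ring
  rw [h4, h1]
  exact Nat.le_add_left _ _

/-- induction step carrying a constant factor -/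
theorem np5_pp_gen2 (p r g c n₀ : ℕ) (hp : p.Prime) (hpr : p = r + 1) (hg : p ≤ 2 ^ g)
    (hgain : ∀ k, g * k ≤ (r * k).factorial.factorization 2)
    (hbase : c * p ^ np5A p n₀ ≤ 2 ^ np5B p n₀) (n : ℕ) (hn : n₀ ≤ n) :
    c * p ^ np5A p n ≤ 2 ^ np5B p n := by
  induction n, hn using Nat.le_induction with
  | base => exact hbase
  | succ n hn ih =>
    have hB := np5B_gain p r g hpr hgain n
    rw [np5A_succ p hp, pow_add]
    calc c * (p ^ np5A p n * p ^ p ^ n) = (c * p ^ np5A p n) * p ^ p ^ n := by ring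
      _ ≤ 2 ^ np5B p n * (2 ^ g) ^ p ^ n := Nat.mul_le_mul ih (Nat.pow_le_pow_left hg _)
      _ = 2 ^ (np5B p n + g * p ^ n) := by ring
      _ ≤ 2 ^ np5B p (n + 1) := Nat.pow_le_pow_right (by norm_num) hB

theorem np5A_one (p : ℕ) (hp : p.Prime) : np5A p 1 = 1 := by
  have h := np5A_succ p hp 0
  rw [np5A_zero] at h
  simpa using h

theorem np5_v2fact : 1 ≤ (2 : ℕ).factorial.factorization 2 :=
  (Nat.Prime.pow_dvd_iff_le_factorization Nat.prime_two (Nat.factorial_ne_zero 2)).mp
    (by decide)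

theorem np5_v4' : 3 ≤ (4 : ℕ).factorial.factorization 2 :=
  (Nat.Prime.pow_dvd_iff_le_factorization Nat.prime_two (Nat.factorial_ne_zero 4)).mp
    (by decide)

theorem np5B_one_odd (s : ℕ) (hs : 2 ≤ s) : s + 1 ≤ np5B (2 * s + 1) 1 := by
  unfold np5B
  rw [pow_one, np5_v2_succ_odd, np5_legendre 2 Nat.prime_two]
  have h1 := np5_v_mono (a := 2) (b := s) hs
  have h2 := np5_v2fact
  omega

theorem np5_pp7_two (p s : ℕ) (hp : p.Prime) (hs : p = 2 * s + 1) (hge : 3 ≤ s) (n : ℕ)
    (hn : 1 ≤ n) : 2 * p ^ np5A p n ≤ 2 ^ np5B p n := by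
  have hg : p ≤ 2 ^ s := by rw [hs]; exact np5_two_pow s hge
  refine np5_pp_gen2 p (2 * s) s 2 1 hp hs hg (np5_gain_odd s) ?_ n hn
  calc 2 * p ^ np5A p 1 = 2 * p := by rw [np5A_one p hp, pow_one]
    _ ≤ 2 * 2 ^ s := Nat.mul_le_mul_left 2 hg
    _ = 2 ^ (s + 1) := by ring
    _ ≤ 2 ^ np5B p 1 := Nat.pow_le_pow_right (by norm_num)
        (by rw [hs]; exact np5B_one_odd s (by omega))

theorem np5_pp5_two (n : ℕ) (hn : 2 ≤ n) : 2 * 5 ^ np5A 5 n ≤ 2 ^ np5B 5 n := by
  have h5 : Nat.Prime 5 := by norm_num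
  refine np5_pp_gen2 5 4 3 2 2 h5 rfl (by norm_num) np5_gain5 ?_ n hn
  have a1 : np5A 5 1 = 1 := np5A_one 5 h5
  have a2 : np5A 5 2 = 6 := by
    have h := np5A_succ 5 h5 1
    rw [a1] at h
    simpa using h
  have b1 := np5B_gain 5 4 3 rfl np5_gain5 0
  have b2 := np5B_gain 5 4 3 rfl np5_gain5 1
  have hb : 15 ≤ np5B 5 2 := by
    norm_num at b1 b2
    omega
  calc 2 * 5 ^ np5A 5 2 = 2 * 5 ^ 6 := by rw [a2]
    _ ≤ 2 ^ 15 := by norm_num
    _ ≤ 2 ^ np5B 5 2 := Nat.pow_le_pow_right (by norm_num) hb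

theorem np5_pp3_two (n : ℕ) (hn : 3 ≤ n) : 2 * 3 ^ np5A 3 n ≤ 2 ^ np5B 3 n := by
  induction n, hn using Nat.le_induction with
  | base =>
    have a3 : np5A 3 3 = 13 := by
      have h := np5A_succ 3 Nat.prime_three 2
      rw [np5A3_two] at h
      simpa using h
    have hb := np5B3_succ 2
    have hb2 := np5B3_two
    have hb3 : 22 ≤ np5B 3 3 := by
      norm_num at hb
      omega
    calc 2 * 3 ^ np5A 3 3 = 2 * 3 ^ 13 := by rw [a3]
      _ ≤ 2 ^ 22 := by norm_num
      _ ≤ 2 ^ np5B 3 3 := Nat.pow_le_pow_right (by norm_num) hb3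
  | succ n hn ih =>
    have hA := np5A_succ 3 Nat.prime_three n
    have hcl := np5A3_closed n
    have hBr := np5B3_succ n
    have hBs := np5B3_small n (by omega)
    have hexp : 3 * np5B 3 n ≤ np5B 3 (n + 1) := by omega
    calc 2 * 3 ^ np5A 3 (n + 1) = 2 * 3 ^ (np5A 3 n + (2 * np5A 3 n + 1)) := by rw [hA, hcl]
      _ = 6 * (3 ^ np5A 3 n) ^ 3 := by ring
      _ ≤ 8 * (3 ^ np5A 3 n) ^ 3 := Nat.mul_le_mul_right _ (by norm_num)
      _ = (2 * 3 ^ np5A 3 n) ^ 3 := by ring
      _ ≤ (2 ^ np5B 3 n) ^ 3 := Nat.pow_le_pow_left ih 3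
      _ = 2 ^ (3 * np5B 3 n) := by ring
      _ ≤ 2 ^ np5B 3 (n + 1) := Nat.pow_le_pow_right (by norm_num) hexp

theorem np5_three_mul2 (b : ℕ) (hb : 2 ≤ b) :
    b.factorial.factorization 2 + 3 ≤ (3 * b).factorial.factorization 2 := by
  have h4 := np5_v_add b 4
  have h5 := np5_v4'
  have h6 := np5_v_mono (show b + 4 ≤ 3 * b by omega)
  omega

theorem np5_add_two_le_mul (a b : ℕ) (ha : 3 ≤ a) (hb : 3 ≤ b) : a + b + 2 ≤ a * b := by
  obtain ⟨a', rfl⟩ := Nat.exists_eq_add_of_le ha
  obtain ⟨b', rfl⟩ := Nat.exists_eq_add_of_le hb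
  nlinarith [Nat.zero_le (a' * b')]

theorem np5_mul_gain (a b : ℕ) (ha : 3 ≤ a) (hb : 3 ≤ b) :
    a.factorial.factorization 2 + b.factorial.factorization 2 + 1
      ≤ (a * b).factorial.factorization 2 := by
  have h1 := np5_v_add a b
  have h2 := np5_v_add (a + b) 2
  have h3 := np5_v2fact
  have h4 := np5_v_mono (np5_add_two_le_mul a b ha hb)
  omega

/-- [B1] odd `m ∉ {1, 3, 5, 9}`: twice the transitive bound is at most the Sylow 2-order. -/
theorem nilBound_odd_two_mul_le (m : ℕ) (hodd : Odd m) (h1 : m ≠ 1) (h3 : m ≠ 3) (h5 : m ≠ 5)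
    (h9 : m ≠ 9) : 2 * Lead.nilBound m ≤ 2 ^ (m.factorial.factorization 2) := by
  revert hodd h1 h3 h5 h9
  induction m using Nat.recOnPrimeCoprime with
  | zero =>
    intro hodd
    exact absurd hodd (by decide)
  | prime_pow p n hp =>
    intro hodd h1 h3 h5 h9
    rcases Nat.eq_zero_or_pos n with rfl | hn
    · exact absurd (pow_zero p) h1
    · rw [np5_nilBound_pp p n hp (by omega)]
      rcases hp.eq_two_or_odd' with rfl | ⟨s, hs⟩
      · exact absurd hodd (Nat.not_odd_iff_even.mpr (Nat.even_pow.mpr ⟨even_two, by omega⟩))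
      · have hs1 : 1 ≤ s := by
          have := hp.two_le
          omega
        rcases Nat.lt_or_ge s 3 with hlt | hge
        · interval_cases s
          · have hp3 : p = 3 := by omega
            subst hp3
            have hn3 : 3 ≤ n := by
              rcases Nat.lt_or_ge n 3 with hlt' | hge'
              · interval_cases n
                · exact (h3 (by norm_num)).elim
                · exact (h9 (by norm_num)).elim
              · exact hge'
            exact np5_pp3_two n hn3
          · have hp5 : p = 5 := by omega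
            subst hp5
            have hn2 : 2 ≤ n := by
              rcases Nat.lt_or_ge n 2 with hlt' | hge'
              · interval_cases n
                exact (h5 (by norm_num)).elim
              · exact hge'
            exact np5_pp5_two n hn2
        · exact np5_pp7_two p s hp hs hge n hn
  | coprime a b ha hb hab _ _ =>
    intro hodd _ _ _ _
    rw [np5_nilBound_mul a b (by omega) (by omega) hab]
    obtain ⟨hoa, hob⟩ := Nat.odd_mul.mp hodd
    have ha3 : 3 ≤ a := by
      obtain ⟨k, hk⟩ := hoa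
      omega
    have hb3 : 3 ≤ b := by
      obtain ⟨k, hk⟩ := hob
      omega
    by_cases hA : a = 3
    · subst hA
      have hbne : b ≠ 3 := by
        rintro rfl
        exact absurd hab (by decide)
      rw [nilBound_three]
      have h1 := np5_main b hbne
      calc 2 * (3 * Lead.nilBound b) = 6 * Lead.nilBound b := by ring
        _ ≤ 2 ^ 3 * 2 ^ (b.factorial.factorization 2) := Nat.mul_le_mul (by norm_num) h1
        _ = 2 ^ (b.factorial.factorization 2 + 3) := by ring
        _ ≤ 2 ^ ((3 * b).factorial.factorization 2) :=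
            Nat.pow_le_pow_right (by norm_num) (np5_three_mul2 b (by omega))
    · by_cases hB : b = 3
      · subst hB
        rw [nilBound_three]
        have h1 := np5_main a hA
        calc 2 * (Lead.nilBound a * 3) = 6 * Lead.nilBound a := by ring
          _ ≤ 2 ^ 3 * 2 ^ (a.factorial.factorization 2) := Nat.mul_le_mul (by norm_num) h1
          _ = 2 ^ (a.factorial.factorization 2 + 3) := by ring
          _ ≤ 2 ^ ((a * 3).factorial.factorization 2) := by
              rw [Nat.mul_comm a 3]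
              exact Nat.pow_le_pow_right (by norm_num) (np5_three_mul2 a (by omega))
      · have h1 := np5_main a hA
        have h2 := np5_main b hB
        calc 2 * (Lead.nilBound a * Lead.nilBound b)
              ≤ 2 * (2 ^ (a.factorial.factorization 2) * 2 ^ (b.factorial.factorization 2)) :=
              Nat.mul_le_mul_left 2 (Nat.mul_le_mul h1 h2)
          _ = 2 ^ (a.factorial.factorization 2 + b.factorial.factorization 2 + 1) := by ring
          _ ≤ 2 ^ ((a * b).factorial.factorization 2) :=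
              Nat.pow_le_pow_right (by norm_num) (np5_mul_gain a b ha3 hb3)

end Cfsg.Agent.Helper5
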