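import Mathlib
import Cfsg.Agent.Lead.NilBound
import Cfsg.Agent.Lead.NilNum
import Cfsg.Agent.Helper5.NilPerm
import Cfsg.Agent.Helper5.NilAlt

set_option autoImplicit false

namespace Cfsg.Agent.Helper5

theorem np5_v9 : 6 ≤ (9 : ℕ).factorial.factorization 2 :=
  (Nat.Prime.pow_dvd_iff_le_factorization Nat.prime_two (Nat.factorial_ne_zero 9)).mp
    (by decide)

/-- `v(x) + v(y) + 1 ≤ v(x + y)` for odd `x, y`. -/
theorem np5_odd_add (x y : ℕ) (hx : Odd x) (hy : Odd y) :
    x.factorial.factorization 2 + y.factorial.factorization 2 + 1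
      ≤ (x + y).factorial.factorization 2 := by
  obtain ⟨a, rfl⟩ := hx
  obtain ⟨b, rfl⟩ := hy
  rw [np5_v2_succ_odd a, np5_v2_succ_odd b]
  have h1 := np5_v_add (2 * a) (2 * b)
  have h2 := np5_v_add (2 * a + 2 * b) 2
  have h3 := np5_v2fact
  have h4 : 2 * a + 1 + (2 * b + 1) = 2 * a + 2 * b + 2 := by ring
  rw [h4]
  omega

/-- `v(x) + 3 ≤ v(x + 3)` for odd `x`. -/
theorem np5_odd_add_three (x : ℕ) (hx : Odd x) :
    x.factorial.factorization 2 + 3 ≤ (x + 3).factorial.factorization 2 := by
  obtain ⟨a, rfl⟩ := hx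
  rw [np5_v2_succ_odd a]
  have h1 := np5_v_add (2 * a) 4
  have h2 := np5_v4'
  have h4 : 2 * a + 1 + 3 = 2 * a + 4 := by ring
  rw [h4]
  omega

/-- override one value of a function -/
def np5_override (c : ℕ → ℕ) (s t : ℕ) : ℕ → ℕ := fun m => if m = s then t else c m

theorem np5_override_same (c : ℕ → ℕ) (s t : ℕ) : np5_override c s t s = t := by
  simp [np5_override]

theorem np5_override_ne (c : ℕ → ℕ) (s t m : ℕ) (h : m ≠ s) : np5_override c s t m = c m := by
  simp [np5_override, h]

/-- merge several parts into one part `s` carrying the bound `t`, then use the symmetric-group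
numerics. -/
theorem np5_merge (c : ℕ → ℕ)
    (hc : ∀ m, 0 < m → m ≠ 3 → c m ≤ 2 ^ (m.factorial.factorization 2)) (hc3 : c 3 = 3)
    (s t : ℕ) (r : Multiset ℕ) (hs : 0 < s) (hs3 : s ≠ 3)
    (ht : t ≤ 2 ^ (s.factorial.factorization 2))
    (hr : ∀ m ∈ r, 0 < m ∧ m ≠ s) (hsum : (s + r.sum) % 4 ≠ 3) :
    t * (r.map c).prod ≤ 2 ^ ((s + r.sum).factorial.factorization 2) := by
  have hc' : ∀ m, 0 < m → m ≠ 3 →
      np5_override c s t m ≤ 2 ^ (m.factorial.factorization 2) := by
    intro m hm hm3
    by_cases hms : m = s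
    · rw [hms, np5_override_same]
      exact ht
    · rw [np5_override_ne c s t m hms]
      exact hc m hm hm3
  have hc3' : np5_override c s t 3 = 3 := by
    rw [np5_override_ne c s t 3 (Ne.symm hs3), hc3]
  have hpos : ∀ m ∈ s ::ₘ r, 0 < m := by
    intro m hm
    rcases Multiset.mem_cons.mp hm with rfl | hm
    · exact hs
    · exact (hr m hm).1
  have key := Lead.nil_prod_le_of (np5_override c s t) hc' hc3' (s ::ₘ r) hpos
    (by rw [Multiset.sum_cons]; exact hsum)
  rw [Multiset.map_cons, Multiset.prod_cons, Multiset.sum_cons, np5_override_same] at key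
  have hmap : r.map (np5_override c s t) = r.map c :=
    Multiset.map_congr rfl (fun m hm => np5_override_ne c s t m (hr m hm).2)
  rw [hmap] at key
  exact key

/-- [B2] numerics for odd-order nilpotent subgroups of alternating groups. -/
theorem nil_prod_odd_le (c : ℕ → ℕ)
    (hc : ∀ m, 0 < m → m ≠ 3 → c m ≤ 2 ^ (m.factorial.factorization 2)) (hc3 : c 3 = 3)
    (hc2 : ∀ m, Odd m → m ≠ 1 → m ≠ 3 → m ≠ 5 → m ≠ 9 →
      2 * c m ≤ 2 ^ (m.factorial.factorization 2))
    (l : Multiset ℕ) (hodd : ∀ m ∈ l, Odd m) (h : l.sum % 4 ≠ 3) (h5 : l.sum ≠ 5)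
    (h6 : l.sum ≠ 6) (h9 : l.sum ≠ 9) (h2 : 2 ≤ l.sum) :
    2 * (l.map c).prod ≤ 2 ^ (l.sum.factorial.factorization 2) := by
  by_cases hall : ∀ x ∈ l, x = 3
  · rcases Multiset.empty_or_exists_mem l with rfl | ⟨x, hx⟩
    · simp at h2
    obtain ⟨l₁, rfl⟩ := Multiset.exists_cons_of_mem hx
    have ex : x = 3 := hall x (Multiset.mem_cons_self x l₁)
    subst ex
    rcases Multiset.empty_or_exists_mem l₁ with rfl | ⟨y, hy⟩
    · simp at h
    obtain ⟨l₂, rfl⟩ := Multiset.exists_cons_of_mem hy
    have ey : y = 3 := hall y (Multiset.mem_cons_of_mem (Multiset.mem_cons_self y l₂))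
    subst ey
    rcases Multiset.empty_or_exists_mem l₂ with rfl | ⟨z, hz⟩
    · simp at h6
    obtain ⟨r, rfl⟩ := Multiset.exists_cons_of_mem hz
    have ez : z = 3 := hall z
      (Multiset.mem_cons_of_mem (Multiset.mem_cons_of_mem (Multiset.mem_cons_self z r)))
    subst ez
    have hr : ∀ m ∈ r, m = 3 := fun m hm => hall m
      (Multiset.mem_cons_of_mem (Multiset.mem_cons_of_mem (Multiset.mem_cons_of_mem hm)))
    simp only [Multiset.sum_cons] at h
    have key := np5_merge c hc hc3 9 54 r (by norm_num) (by norm_num)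
      (le_trans (by norm_num) (Nat.pow_le_pow_right (by norm_num) np5_v9))
      (fun m hm => by rw [hr m hm]; norm_num) (by omega)
    simp only [Multiset.map_cons, Multiset.prod_cons, Multiset.sum_cons, hc3]
    have hs : 3 + (3 + (3 + r.sum)) = 9 + r.sum := by omega
    rw [hs]
    calc 2 * (3 * (3 * (3 * (r.map c).prod))) = 54 * (r.map c).prod := by ring
      _ ≤ _ := key
  · push_neg at hall
    obtain ⟨x, hx, hx3⟩ := hall
    obtain ⟨l₁, rfl⟩ := Multiset.exists_cons_of_mem hx
    have hox : Odd x := hodd x (Multiset.mem_cons_self x l₁)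
    rcases Multiset.empty_or_exists_mem l₁ with rfl | ⟨y, hy⟩
    · simp only [Multiset.sum_cons, Multiset.sum_zero, add_zero] at h h5 h6 h9 h2
      simp only [Multiset.map_cons, Multiset.map_zero, Multiset.prod_cons, Multiset.prod_zero,
        mul_one, Multiset.sum_cons, Multiset.sum_zero, add_zero]
      exact hc2 x hox (by omega) hx3 h5 h9
    obtain ⟨r, rfl⟩ := Multiset.exists_cons_of_mem hy
    have hoy : Odd y := hodd y (Multiset.mem_cons_of_mem (Multiset.mem_cons_self y r))
    have hor : ∀ m ∈ r, Odd m := fun m hm =>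
      hodd m (Multiset.mem_cons_of_mem (Multiset.mem_cons_of_mem hm))
    have hxpos : 0 < x := by
      obtain ⟨k, hk⟩ := hox
      omega
    have hypos : 0 < y := by
      obtain ⟨k, hk⟩ := hoy
      omega
    have hK : 2 * c x * c y ≤ 2 ^ ((x + y).factorial.factorization 2) := by
      have hcx := hc x hxpos hx3
      by_cases hy3 : y = 3
      · rw [hy3, hc3]
        calc 2 * c x * 3 = 6 * c x := by ring
          _ ≤ 2 ^ 3 * 2 ^ (x.factorial.factorization 2) := Nat.mul_le_mul (by norm_num) hcx
          _ = 2 ^ (x.factorial.factorization 2 + 3) := by ring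
          _ ≤ 2 ^ ((x + 3).factorial.factorization 2) :=
              Nat.pow_le_pow_right (by norm_num) (np5_odd_add_three x hox)
      · have hcy := hc y hypos hy3
        calc 2 * c x * c y = 2 * (c x * c y) := by ring
          _ ≤ 2 * (2 ^ (x.factorial.factorization 2) * 2 ^ (y.factorial.factorization 2)) :=
              Nat.mul_le_mul_left 2 (Nat.mul_le_mul hcx hcy)
          _ = 2 ^ (x.factorial.factorization 2 + y.factorial.factorization 2 + 1) := by ring
          _ ≤ 2 ^ ((x + y).factorial.factorization 2) :=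
              Nat.pow_le_pow_right (by norm_num) (np5_odd_add x y hox hoy)
    have hxy_even : Even (x + y) := Odd.add_odd hox hoy
    simp only [Multiset.sum_cons] at h
    have key := np5_merge c hc hc3 (x + y) (2 * c x * c y) r (by omega)
      (by
        intro h3'
        rw [h3'] at hxy_even
        exact absurd hxy_even (by decide))
      hK
      (fun m hm => ⟨by
        obtain ⟨k, hk⟩ := hor m hm
        omega, by
        intro hm'
        have ho := hor m hm
        rw [hm'] at ho
        exact (Nat.not_even_iff_odd.mpr ho) hxy_even⟩)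
      (by rw [add_assoc]; exact h)
    simp only [Multiset.map_cons, Multiset.prod_cons, Multiset.sum_cons]
    rw [← add_assoc]
    calc 2 * (c x * (c y * (r.map c).prod)) = 2 * c x * c y * (r.map c).prod := by ring
      _ ≤ _ := key

end Cfsg.Agent.Helper5
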