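import Mathlib
import Cfsg.Agent.Helper5.NilAlt2

/-!
Part [F1] of the S2256 sprint: numerics for nilpotent subgroups of odd-orbit type in
alternating groups of degree `≡ 3 (mod 4)`.
-/

set_option autoImplicit false

namespace Cfsg.Agent.Helper5

/-- `v((4k+3)!) = v((4k)!) + 1` for the 2-adic valuation. -/
theorem np5_v_mod4_three (k : ℕ) :
    (4 * k + 3).factorial.factorization 2 = (4 * k).factorial.factorization 2 + 1 := by
  have h1 := np5_v2_succ_odd (2 * k + 1)
  have h2 := np5_legendre 2 Nat.prime_two (2 * k + 1)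
  have h3 := np5_v2_succ_odd k
  have h4 := np5_legendre 2 Nat.prime_two (2 * k)
  have e1 : 4 * k + 3 = 2 * (2 * k + 1) + 1 := by ring
  have e2 : 4 * k = 2 * (2 * k) := by ring
  rw [e1, e2]
  omega

/-- parts different from `3` obey the symmetric-group bound, without any congruence
condition on the sum. -/
theorem np5_prod_no_three (c : ℕ → ℕ)
    (hc : ∀ m, 0 < m → m ≠ 3 → c m ≤ 2 ^ (m.factorial.factorization 2))
    (r : Multiset ℕ) (hr : ∀ m ∈ r, 0 < m ∧ m ≠ 3) :
    (r.map c).prod ≤ 2 ^ (r.sum.factorial.factorization 2) := by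
  induction r using Multiset.induction_on with
  | empty =>
    simp only [Multiset.map_zero, Multiset.prod_zero, Multiset.sum_zero]
    exact Nat.one_le_pow _ _ (by norm_num)
  | cons a s ih =>
    have ha := hr a (Multiset.mem_cons_self a s)
    have hs := ih (fun m hm => hr m (Multiset.mem_cons_of_mem hm))
    rw [Multiset.map_cons, Multiset.prod_cons, Multiset.sum_cons]
    calc c a * (s.map c).prod
        ≤ 2 ^ (a.factorial.factorization 2) * 2 ^ (s.sum.factorial.factorization 2) :=
          Nat.mul_le_mul (hc a ha.1 ha.2) hs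
      _ = 2 ^ (a.factorial.factorization 2 + s.sum.factorial.factorization 2) := by
          rw [pow_add]
      _ ≤ 2 ^ ((a + s.sum).factorial.factorization 2) :=
          Nat.pow_le_pow_right (by norm_num) (np5_v_add a s.sum)

/-- odd parts, none equal to `3`, sum `≡ 3 (mod 4)` and at least `7`: a factor `2` is gained. -/
theorem np5_alt3_no_three (c : ℕ → ℕ)
    (hc : ∀ m, 0 < m → m ≠ 3 → c m ≤ 2 ^ (m.factorial.factorization 2))
    (hc2 : ∀ m, Odd m → m ≠ 1 → m ≠ 3 → m ≠ 5 → m ≠ 9 →
      2 * c m ≤ 2 ^ (m.factorial.factorization 2))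
    (l : Multiset ℕ) (hodd : ∀ m ∈ l, Odd m) (hno : ∀ m ∈ l, m ≠ 3)
    (h : l.sum % 4 = 3) (h7 : 7 ≤ l.sum) :
    2 * (l.map c).prod ≤ 2 ^ (l.sum.factorial.factorization 2) := by
  rcases Multiset.empty_or_exists_mem l with rfl | ⟨x, hx⟩
  · simp at h7
  obtain ⟨l₁, rfl⟩ := Multiset.exists_cons_of_mem hx
  have hox : Odd x := hodd x (Multiset.mem_cons_self x l₁)
  have hx3 : x ≠ 3 := hno x (Multiset.mem_cons_self x l₁)
  rcases Multiset.empty_or_exists_mem l₁ with rfl | ⟨y, hy⟩
  · simp only [Multiset.sum_cons, Multiset.sum_zero, add_zero] at h h7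
    simp only [Multiset.map_cons, Multiset.map_zero, Multiset.prod_cons, Multiset.prod_zero,
      mul_one, Multiset.sum_cons, Multiset.sum_zero, add_zero]
    exact hc2 x hox (by omega) hx3 (by omega) (by omega)
  obtain ⟨r, rfl⟩ := Multiset.exists_cons_of_mem hy
  have hoy : Odd y := hodd y (Multiset.mem_cons_of_mem (Multiset.mem_cons_self y r))
  have hy3 : y ≠ 3 := hno y (Multiset.mem_cons_of_mem (Multiset.mem_cons_self y r))
  have hxpos : 0 < x := by
    obtain ⟨k, hk⟩ := hox
    omega
  have hypos : 0 < y := by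
    obtain ⟨k, hk⟩ := hoy
    omega
  have hK : 2 * c x * c y ≤ 2 ^ ((x + y).factorial.factorization 2) := by
    have hcx := hc x hxpos hx3
    have hcy := hc y hypos hy3
    calc 2 * c x * c y = 2 * (c x * c y) := by ring
      _ ≤ 2 * (2 ^ (x.factorial.factorization 2) * 2 ^ (y.factorial.factorization 2)) :=
          Nat.mul_le_mul_left 2 (Nat.mul_le_mul hcx hcy)
      _ = 2 ^ (x.factorial.factorization 2 + y.factorial.factorization 2 + 1) := by ring
      _ ≤ 2 ^ ((x + y).factorial.factorization 2) :=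
          Nat.pow_le_pow_right (by norm_num) (np5_odd_add x y hox hoy)
  have hR : (r.map c).prod ≤ 2 ^ (r.sum.factorial.factorization 2) :=
    np5_prod_no_three c hc r (fun m hm => by
      have hm' : m ∈ x ::ₘ y ::ₘ r :=
        Multiset.mem_cons_of_mem (Multiset.mem_cons_of_mem hm)
      refine ⟨?_, hno m hm'⟩
      obtain ⟨k, hk⟩ := hodd m hm'
      omega)
  simp only [Multiset.map_cons, Multiset.prod_cons, Multiset.sum_cons]
  calc 2 * (c x * (c y * (r.map c).prod)) = (2 * c x * c y) * (r.map c).prod := by ring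
    _ ≤ 2 ^ ((x + y).factorial.factorization 2) * 2 ^ (r.sum.factorial.factorization 2) :=
        Nat.mul_le_mul hK hR
    _ = 2 ^ ((x + y).factorial.factorization 2 + r.sum.factorial.factorization 2) := by
        rw [pow_add]
    _ ≤ 2 ^ ((x + y + r.sum).factorial.factorization 2) :=
        Nat.pow_le_pow_right (by norm_num) (np5_v_add (x + y) r.sum)
    _ = 2 ^ ((x + (y + r.sum)).factorial.factorization 2) := by rw [add_assoc]

/-- [F1] numerics for odd-orbit nilpotent subgroups when the degree is `≡ 3 (mod 4)`. -/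
theorem alt3_num (c : ℕ → ℕ)
    (hc : ∀ m, 0 < m → m ≠ 3 → c m ≤ 2 ^ (m.factorial.factorization 2))
    (hc3 : c 3 = 3)
    (hc2 : ∀ m, Odd m → m ≠ 1 → m ≠ 3 → m ≠ 5 → m ≠ 9 →
      2 * c m ≤ 2 ^ (m.factorial.factorization 2))
    (l : Multiset ℕ) (hodd : ∀ m ∈ l, Odd m) (h : l.sum % 4 = 3) (h7 : 7 ≤ l.sum) :
    2 * (l.map c).prod ≤ 3 * 2 ^ ((l.sum - 3).factorial.factorization 2) := by
  by_cases h3 : (3 : ℕ) ∈ l
  · obtain ⟨l', rfl⟩ := Multiset.exists_cons_of_mem h3
    rw [Multiset.sum_cons] at h h7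
    have key := nil_prod_odd_le c hc hc3 hc2 l'
      (fun m hm => hodd m (Multiset.mem_cons_of_mem hm))
      (by omega) (by omega) (by omega) (by omega) (by omega)
    rw [Multiset.map_cons, Multiset.prod_cons, Multiset.sum_cons, hc3,
      Nat.add_sub_cancel_left]
    calc 2 * (3 * (l'.map c).prod) = 3 * (2 * (l'.map c).prod) := by ring
      _ ≤ 3 * 2 ^ (l'.sum.factorial.factorization 2) := Nat.mul_le_mul_left 3 key
  · have hno : ∀ m ∈ l, m ≠ 3 := by
      intro m hm hm3
      rw [hm3] at hm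
      exact h3 hm
    have hB := np5_alt3_no_three c hc hc2 l hodd hno h h7
    obtain ⟨k, hk⟩ : ∃ k, l.sum = 4 * k + 3 := ⟨l.sum / 4, by omega⟩
    have hv : l.sum.factorial.factorization 2
        = (l.sum - 3).factorial.factorization 2 + 1 := by
      rw [hk, Nat.add_sub_cancel]
      exact np5_v_mod4_three k
    rw [hv] at hB
    calc 2 * (l.map c).prod ≤ 2 ^ ((l.sum - 3).factorial.factorization 2 + 1) := hB
      _ = 2 * 2 ^ ((l.sum - 3).factorial.factorization 2) := by ring
      _ ≤ 3 * 2 ^ ((l.sum - 3).factorial.factorization 2) :=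
          Nat.mul_le_mul_right _ (by norm_num)

end Cfsg.Agent.Helper5
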