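import Mathlib

/-!
Part [E] of the S2254 sprint: inside `Perm (Fin n)` (for `3 ≤ n`) there is a nilpotent
subgroup isomorphic to `P × C₃`, where `P` is a Sylow 2-subgroup of `Perm (Fin (n - 3))`.
It is the image of `P × C₃` under the block embedding
`Perm (Fin (n - 3)) × Perm C₃ → Perm (Fin (n - 3) ⊕ C₃) ≃ Perm (Fin n)`,
with `C₃` acting on itself by translations.
-/

namespace Cfsg.Agent.Helper5

theorem exists_nil_three_mul (n : ℕ) (hn : 3 ≤ n)
    (P : Sylow 2 (Equiv.Perm (Fin (n - 3)))) :
    ∃ M : Subgroup (Equiv.Perm (Fin n)), Group.IsNilpotent M ∧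
      Nat.card M = 3 * Nat.card P ∧
      Nonempty (M ≃* (↥(P : Subgroup (Equiv.Perm (Fin (n - 3)))) ×
        Multiplicative (ZMod 3))) := by
  classical
  -- the regular representation of the cyclic group of order three
  let g : Multiplicative (ZMod 3) →* Equiv.Perm (Multiplicative (ZMod 3)) :=
    MulAction.toPermHom (Multiplicative (ZMod 3)) (Multiplicative (ZMod 3))
  have hg : Function.Injective g := by
    intro a b hab
    have h1 : g a 1 = g b 1 := by rw [hab]
    have h2 : ∀ c : Multiplicative (ZMod 3), g c 1 = c := by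
      intro c
      show c • (1 : Multiplicative (ZMod 3)) = c
      rw [smul_eq_mul, mul_one]
    rw [h2 a, h2 b] at h1
    exact h1
  -- relabelling of the points
  have hcard : Fintype.card (Fin (n - 3) ⊕ Multiplicative (ZMod 3)) = n := by
    rw [Fintype.card_sum, Fintype.card_fin, Fintype.card_multiplicative, ZMod.card]
    omega
  let e : Fin (n - 3) ⊕ Multiplicative (ZMod 3) ≃ Fin n := Fintype.equivFinOfCardEq hcard
  -- the block embedding
  let f : Equiv.Perm (Fin (n - 3)) × Multiplicative (ZMod 3) →* Equiv.Perm (Fin n) :=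
    (Equiv.permCongrHom e).toMonoidHom.comp
      ((Equiv.Perm.sumCongrHom (Fin (n - 3)) (Multiplicative (ZMod 3))).comp
        (MonoidHom.prodMap (MonoidHom.id (Equiv.Perm (Fin (n - 3)))) g))
  have hpm : Function.Injective
      (MonoidHom.prodMap (MonoidHom.id (Equiv.Perm (Fin (n - 3)))) g) := by
    rintro ⟨x1, x2⟩ ⟨y1, y2⟩ hxy
    have h1 : x1 = y1 := congrArg Prod.fst hxy
    have h2 : g x2 = g y2 := congrArg Prod.snd hxy
    rw [h1, hg h2]
  have hf : Function.Injective f := by
    intro x y hxy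
    apply hpm
    apply Equiv.Perm.sumCongrHom_injective
    apply (Equiv.permCongrHom e).injective
    exact hxy
  -- the subgroup and its structure
  let M : Subgroup (Equiv.Perm (Fin n)) :=
    ((P : Subgroup (Equiv.Perm (Fin (n - 3)))).prod
      (⊤ : Subgroup (Multiplicative (ZMod 3)))).map f
  let iso : M ≃* (↥(P : Subgroup (Equiv.Perm (Fin (n - 3)))) × Multiplicative (ZMod 3)) :=
    (Subgroup.equivMapOfInjective _ f hf).symm.trans
      ((Subgroup.prodEquiv _ _).trans
        (MulEquiv.prodCongr (MulEquiv.refl _) Subgroup.topEquiv))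
  have h3 : Nat.card (Multiplicative (ZMod 3)) = 3 := by
    rw [Nat.card_congr (Multiplicative.toAdd : Multiplicative (ZMod 3) ≃ ZMod 3),
      Nat.card_zmod]
  have hPnil : Group.IsNilpotent ↥(P : Subgroup (Equiv.Perm (Fin (n - 3)))) :=
    P.isPGroup'.isNilpotent
  refine ⟨M, ?_, ?_, ⟨iso⟩⟩
  · exact Group.nilpotent_of_mulEquiv iso.symm
  · rw [Nat.card_congr iso.toEquiv, Nat.card_prod, h3, mul_comm]

end Cfsg.Agent.Helper5
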